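import Mathlib
import Cfsg.Agent.Lib.SylowNumber.Basic
import Cfsg.Agent.Lib.SylowNumber.TwoMulAddOne

/-!
Simple groups with twenty-two Sylow `3`-subgroups: the action on them.
-/

namespace CfsgLib.SylowNumber.TwentyTwo

open scoped Pointwise

set_option linter.style.haveILetI false
set_option linter.unusedSectionVars false

/-- The data of the configuration. -/
structure Config (G : Type*) [Group G] : Prop where
  simple : IsSimpleGroup G
  card_sylow : Nat.card (Sylow 3 G) = 22

namespace Config

variable {G : Type*} [Group G] [Finite G] [Fact (Nat.Prime 3)] (hG : Config G)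
include hG

theorem nontrivial_sylow : Nontrivial (Sylow 3 G) :=
  Finite.one_lt_card_iff_nontrivial.mp (by rw [hG.card_sylow]; omega)

theorem eq_bot_or_top {M : Subgroup G} (h : M.Normal) : M = ⊥ ∨ M = ⊤ :=
  haveI := hG.simple
  h.eq_bot_or_eq_top

theorem normalizer_index (P : Sylow 3 G) :
    (Subgroup.normalizer ((P : Subgroup G) : Set G)).index = 22 := by
  rw [P.coe_coe, ← P.card_eq_index_normalizer, hG.card_sylow]

theorem normalizer_ne_top (P : Sylow 3 G) :
    Subgroup.normalizer ((P : Subgroup G) : Set G) ≠ ⊤ := fun h => by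
  have := hG.normalizer_index P
  rw [h, Subgroup.index_top] at this
  omega

theorem not_comm : ¬ IsMulCommutative G := by
  intro h
  obtain ⟨P⟩ : Nonempty (Sylow 3 G) := inferInstance
  refine hG.normalizer_ne_top P (eq_top_iff.mpr fun g _ => ?_)
  refine Subgroup.mem_normalizer_iff.mpr fun y => ?_
  rw [h.is_comm.comm g y, mul_inv_cancel_right]

theorem faithful {g : G} (h : ∀ Q : Sylow 3 G, g • Q = Q) : g = 1 := by
  obtain ⟨P⟩ : Nonempty (Sylow 3 G) := inferInstance
  rcases hG.eq_bot_or_top (M := (MulAction.toPermHom G (Sylow 3 G)).ker) inferInstance with hb | ht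
  · exact Subgroup.mem_bot.mp (hb ▸ (Equiv.ext h : g ∈ (MulAction.toPermHom G (Sylow 3 G)).ker))
  · exfalso
    refine hG.normalizer_ne_top P (eq_top_iff.mpr fun x _ => ?_)
    have hx : x ∈ (MulAction.toPermHom G (Sylow 3 G)).ker := ht ▸ Subgroup.mem_top x
    exact Sylow.smul_eq_iff_mem_normalizer.mp
      (show MulAction.toPermHom G (Sylow 3 G) x P = P by rw [MonoidHom.mem_ker.mp hx]; rfl)

theorem smul_self_of_mem {P : Sylow 3 G} {g : G} (h : g ∈ (P : Subgroup G)) : g • P = P :=
  Sylow.smul_eq_iff_mem_normalizer.mpr (Subgroup.le_normalizer h)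

theorem smul_self_iff {P : Sylow 3 G} {g : G} :
    g ∈ Subgroup.normalizer ((P : Subgroup G) : Set G) ↔ g • P = P :=
  Sylow.smul_eq_iff_mem_normalizer.symm

/-- The normalizer of a Sylow subgroup is maximal. -/
theorem eq_top_of_normalizer_lt (P : Sylow 3 G) {H : Subgroup G}
    (hN : Subgroup.normalizer ((P : Subgroup G) : Set G) ≤ H) {g : G} (hg : g ∈ H)
    (hgP : g • P ≠ P) : H = ⊤ := by
  have hPH : (P : Subgroup G) ≤ H := Subgroup.le_normalizer.trans hN
  have h1 := Subgroup.relIndex_mul_index hN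
  rw [hG.normalizer_index P] at h1
  have h2 : Nat.card (Sylow 3 H) =
      (Subgroup.normalizer ((P : Subgroup G) : Set G)).relIndex H := by
    rw [Sylow.card_eq_index_normalizer (P.subtype hPH)]
    show (Subgroup.normalizer (((P.subtype hPH : Sylow 3 H) : Subgroup H) : Set H)).index = _
    rw [Sylow.coe_subtype, ← Subgroup.subgroupOf_normalizer_eq hPH]
    rfl
  have h3 : Nat.card (Sylow 3 H) % 3 = 1 := card_sylow_modEq_one 3 H
  set r := (Subgroup.normalizer ((P : Subgroup G) : Set G)).relIndex H with hr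
  have hr1 : r ≠ 1 := fun h => hgP (hG.smul_self_iff.mp (Subgroup.relIndex_eq_one.mp h hg))
  rw [h2] at h3
  refine Subgroup.index_eq_one.mp ?_
  have hd : r ∣ 22 := ⟨_, h1.symm⟩
  have hle : r ≤ 22 := Nat.le_of_dvd (by norm_num) hd
  interval_cases r <;> omega

/-- Every group map to a commutative group is trivial. -/
theorem hom_eq_one {A : Type*} [CommGroup A] (f : G →* A) (g : G) : f g = 1 := by
  rcases hG.eq_bot_or_top (M := f.ker) inferInstance with h | h
  · refine absurd ⟨⟨fun a b => ?_⟩⟩ hG.not_comm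
    exact (MonoidHom.ker_eq_bot_iff f).mp h (by rw [map_mul, map_mul, mul_comm])
  · exact MonoidHom.mem_ker.mp (h ▸ Subgroup.mem_top g)

/-- Parity: an involution moves a number of points divisible by 4. -/
theorem four_dvd_moved {s : G} (hs : s * s = 1) (hs1 : s ≠ 1) :
    4 ∣ Nat.card {Q : Sylow 3 G // s • Q ≠ Q} := by
  classical
  haveI : Fintype (Sylow 3 G) := Fintype.ofFinite _
  set σ : Equiv.Perm (Sylow 3 G) := MulAction.toPermHom G (Sylow 3 G) s with hσ
  have happ : ∀ Q, σ Q = s • Q := fun Q => rfl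
  have h1 : σ ≠ 1 := fun h => hs1 (hG.faithful fun Q => by rw [← happ, h]; rfl)
  have h2 : σ ^ 2 = 1 := by rw [hσ, ← map_pow, pow_two, hs, map_one]
  have ho : orderOf σ = 2 := orderOf_eq_prime h2 h1
  obtain ⟨n, hn⟩ := Equiv.Perm.cycleType_prime_order (σ := σ) (ho ▸ Nat.prime_two)
  rw [ho] at hn
  have hsign : Equiv.Perm.sign σ = 1 := by
    have := hG.hom_eq_one (Equiv.Perm.sign.comp (MulAction.toPermHom G (Sylow 3 G))) s
    simpa [hσ] using this
  rw [Equiv.Perm.sign_of_cycleType, hn, Multiset.sum_replicate, Multiset.card_replicate,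
    smul_eq_mul, pow_add, mul_comm (n + 1) 2, pow_mul, ← mul_pow] at hsign
  have heven : Even (n + 1) := by
    rcases Nat.even_or_odd (n + 1) with h | h
    · exact h
    · exfalso
      simp [h.neg_one_pow] at hsign
  have hsupp : σ.support.card = 2 * (n + 1) := by
    rw [← Equiv.Perm.sum_cycleType, hn, Multiset.sum_replicate, smul_eq_mul, mul_comm]
  have hmoved : Nat.card {Q : Sylow 3 G // s • Q ≠ Q} = σ.support.card := by
    rw [Nat.card_eq_fintype_card, Fintype.card_subtype]
    congr 1
  obtain ⟨m, hm⟩ := heven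
  rw [hmoved]
  omega

theorem orbit_ncard {P Q : Sylow 3 G} (hQ : Q ≠ P) :
    (MulAction.orbit (P : Subgroup G) Q).ncard = 3 ∨
      (MulAction.orbit (P : Subgroup G) Q).ncard = 9 := by
  obtain ⟨n, hn⟩ := P.2.card_orbit Q
  rw [Nat.card_coe_set_eq] at hn
  have hne : (MulAction.orbit (P : Subgroup G) Q).ncard ≠ 1 := fun h => hQ <|
    eq_of_forall_smul_eq fun x hx => by
      obtain ⟨a, ha⟩ := Set.ncard_eq_one.mp h
      have h1 : (⟨x, hx⟩ : (P : Subgroup G)) • Q ∈ MulAction.orbit (P : Subgroup G) Q :=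
        MulAction.mem_orbit _ _
      have h2 := MulAction.mem_orbit_self (M := (P : Subgroup G)) Q
      rw [ha, Set.mem_singleton_iff] at h1 h2
      exact h1.trans h2.symm
  have hle : (MulAction.orbit (P : Subgroup G) Q).ncard ≤ 22 :=
    hG.card_sylow ▸ Set.ncard_le_card _
  rw [hn] at hne hle ⊢
  match n with
  | 0 => simp at hne
  | 1 => exact Or.inl rfl
  | 2 => exact Or.inr rfl
  | n + 3 =>
    have : 3 ^ 3 ≤ 3 ^ (n + 3) := Nat.pow_le_pow_right (by omega) (by omega)
    omega

theorem notMem_orbit {P Q : Sylow 3 G} (hQ : Q ≠ P) :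
    P ∉ MulAction.orbit (P : Subgroup G) Q := by
  intro hm
  obtain ⟨x, hx⟩ := hm
  refine hQ ?_
  rw [eq_inv_smul_iff.mpr hx]
  exact hG.smul_self_of_mem (x⁻¹).2

theorem ne_of_mem_orbit {P Q R : Sylow 3 G} (hQ : Q ≠ P)
    (hR : R ∈ MulAction.orbit (P : Subgroup G) Q) : R ≠ P :=
  fun h => hG.notMem_orbit hQ (h ▸ hR)

theorem card_eq_orbit_mul (P Q : Sylow 3 G) :
    Nat.card (P : Subgroup G) = (MulAction.orbit (P : Subgroup G) Q).ncard *
      Nat.card ((P : Subgroup G) ⊓ Q : Subgroup G) := by
  have h := Subgroup.index_mul_card (MulAction.stabilizer (P : Subgroup G) Q)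
  rw [MulAction.index_stabilizer, stabilizer_eq_inf, ← Subgroup.inf_subgroupOf_left,
    Nat.card_congr (Subgroup.subgroupOfEquivOfLe inf_le_left).toEquiv] at h
  exact h.symm

/-- Every element of `G` fixing a Sylow subgroup normalises it, and `G` is transitive. -/
theorem exists_smul_eq (P Q : Sylow 3 G) : ∃ g : G, g • P = Q := MulAction.exists_smul_eq G P Q

/-- Counting fixed points with a conjugacy class. -/
theorem fix_mul_class (y : G) (P : Sylow 3 G) :
    Nat.card {Q : Sylow 3 G // y • Q = Q} * Nat.card {g : G // IsConj y g} =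
      22 * Nat.card {g : G // IsConj y g ∧ g • P = P} := by
  classical
  haveI : Fintype (Sylow 3 G) := Fintype.ofFinite _
  haveI : Fintype G := Fintype.ofFinite _
  have hcount := Finset.sum_card_bipartiteAbove_eq_sum_card_bipartiteBelow
    (fun (g : G) (Q : Sylow 3 G) => g • Q = Q)
    (s := Finset.univ.filter (fun g => IsConj y g)) (t := Finset.univ)
  have hrow : ∀ g ∈ Finset.univ.filter (fun g => IsConj y g),
      (Finset.bipartiteAbove (fun (g : G) (Q : Sylow 3 G) => g • Q = Q) Finset.univ g).card =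
        Nat.card {Q : Sylow 3 G // y • Q = Q} := by
    intro g hg
    obtain ⟨c, rfl⟩ := isConj_iff.mp (Finset.mem_filter.mp hg).2
    rw [Finset.bipartiteAbove, ← Fintype.card_subtype, ← Nat.card_eq_fintype_card]
    refine (Nat.card_congr ((MulAction.toPerm c).subtypeEquiv fun Q => ?_)).symm
    rw [MulAction.toPerm_apply, mul_smul, inv_smul_smul, mul_smul, smul_left_cancel_iff]
  have hcol : ∀ Q ∈ (Finset.univ : Finset (Sylow 3 G)),
      (Finset.bipartiteBelow (fun (g : G) (Q : Sylow 3 G) => g • Q = Q)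
        (Finset.univ.filter (fun g => IsConj y g)) Q).card =
        Nat.card {g : G // IsConj y g ∧ g • P = P} := by
    intro Q _
    obtain ⟨c, rfl⟩ := hG.exists_smul_eq P Q
    rw [Finset.bipartiteBelow, Finset.filter_filter, ← Fintype.card_subtype,
      ← Nat.card_eq_fintype_card]
    refine (Nat.card_congr ((MulAut.conj c).toEquiv.subtypeEquiv fun g => ?_)).symm
    rw [MulEquiv.toEquiv_eq_coe, MulEquiv.coe_toEquiv, MulAut.conj_apply, mul_smul, inv_smul_smul,
      mul_smul, smul_left_cancel_iff]
    have : IsConj g (c * g * c⁻¹) := isConj_iff.mpr ⟨c, rfl⟩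
    exact and_congr_left' ⟨fun h => h.trans this, fun h => h.trans this.symm⟩
  rw [Finset.sum_congr rfl hrow, Finset.sum_congr rfl hcol, Finset.sum_const, Finset.sum_const,
    smul_eq_mul, smul_eq_mul, ← Fintype.card_subtype, ← Nat.card_eq_fintype_card,
    Finset.card_univ, ← Nat.card_eq_fintype_card, hG.card_sylow] at hcount
  rw [mul_comm]
  exact hcount

/-- An element of order 11 is semiregular, and generates its centralizer. -/
theorem eleven_cent (P : Sylow 3 G)
    (h11 : ¬ 11 ∣ Nat.card (Subgroup.normalizer ((P : Subgroup G) : Set G))) {q : G}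
    (hoq : orderOf q = 11) {c : G} (hc : Commute c q) : ∃ i : ℕ, c = q ^ i := by
  classical
  haveI : Fintype (Sylow 3 G) := Fintype.ofFinite _
  haveI : Fact (Nat.Prime 11) := ⟨by norm_num⟩
  set N := Subgroup.normalizer ((P : Subgroup G) : Set G) with hN
  have hq11 : q ^ 11 = 1 := orderOf_dvd_iff_pow_eq_one.mp hoq.dvd
  have hno : ∀ d ∈ N, d ^ 11 = 1 → d = 1 := by
    intro d hd h
    rcases (Nat.dvd_prime (Fact.out : Nat.Prime 11)).mp (orderOf_dvd_of_pow_eq_one h) with h1 | h1
    · exact orderOf_eq_one_iff.mp h1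
    · exact absurd (h1 ▸ Subgroup.orderOf_dvd_natCard N hd) h11
  have hfree : ∀ (R : Sylow 3 G) (i : ℕ), q ^ i • R = R → 11 ∣ i := by
    intro R i h
    obtain ⟨g, rfl⟩ := hG.exists_smul_eq P R
    have h1 : g⁻¹ * q ^ i * g ∈ N := by
      rw [hN, hG.smul_self_iff, mul_smul, mul_smul, h, inv_smul_smul]
    have h2 : g⁻¹ * q ^ i * g = 1 := hno _ h1 (by
      have : (g⁻¹ * q ^ i * g) = g⁻¹ * q ^ i * (g⁻¹)⁻¹ := by rw [inv_inv]
      rw [this, conj_pow, ← pow_mul, mul_comm, pow_mul, hq11, one_pow, mul_one, mul_inv_cancel])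
    have h3 : q ^ i = 1 := by
      have : q ^ i = g * (g⁻¹ * q ^ i * g) * g⁻¹ := by group
      rw [this, h2, mul_one, mul_inv_cancel]
    exact hoq ▸ orderOf_dvd_of_pow_eq_one h3
  have hinj : ∀ R : Sylow 3 G, ((Finset.range 11).image (fun i => q ^ i • R)).card = 11 := by
    intro R
    rw [Finset.card_image_of_injOn, Finset.card_range]
    intro i hi j hj h
    simp only [Finset.coe_range, Set.mem_Iio] at hi hj
    simp only at h
    rcases le_total i j with hij | hij
    · have h' : q ^ (j - i) • R = R := by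
        apply smul_left_cancel (q ^ i)
        rw [← mul_smul, ← pow_add, Nat.add_sub_cancel' hij, h]
      have := hfree R _ h'
      omega
    · have h' : q ^ (i - j) • R = R := by
        apply smul_left_cancel (q ^ j)
        rw [← mul_smul, ← pow_add, Nat.add_sub_cancel' hij, h]
      have := hfree R _ h'
      omega
  set A : Finset (Sylow 3 G) := (Finset.range 11).image (fun i => q ^ i • P) with hA
  have hAcard : A.card = 11 := hinj P
  have hmemA : ∀ i : ℕ, q ^ i • P ∈ A := fun i => Finset.mem_image.mpr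
    ⟨i % 11, Finset.mem_range.mpr (Nat.mod_lt _ (by norm_num)), by rw [← hoq, pow_mod_orderOf]⟩
  have hPA : P ∈ A := by simpa using hmemA 0
  have hexA : ∀ R ∈ A, ∃ j : ℕ, q ^ j • P = R := fun R hR => by
    obtain ⟨j, -, hj⟩ := Finset.mem_image.mp hR
    exact ⟨j, hj⟩
  clear_value A
  clear hA
  have hcomp : Aᶜ.card = 11 := by
    rw [Finset.card_compl, hAcard, ← Nat.card_eq_fintype_card, hG.card_sylow]
  -- what commutes with `q` is determined on the orbit of `P` by the image of `P`
  have hblock : ∀ c : G, Commute c q → c • P ∈ A → ∀ R ∈ A, c • R ∈ A := by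
    intro c hc hcA R hR
    obtain ⟨j, rfl⟩ := hexA _ hR
    obtain ⟨i, hi⟩ := hexA _ hcA
    rw [← mul_smul, (hc.pow_right j).eq, mul_smul, ← hi, ← mul_smul, ← pow_add]
    exact hmemA _
  have hflip : ∀ c : G, Commute c q → c • P ∉ A → A.image (fun R => c • R) = Aᶜ := by
    intro c hc hcA
    refine Finset.eq_of_subset_of_card_le ?_ ?_
    · intro T hT
      obtain ⟨R, hR, rfl⟩ := Finset.mem_image.mp hT
      rw [Finset.mem_compl]
      intro h
      obtain ⟨j, rfl⟩ := hexA _ hR
      obtain ⟨i, hi⟩ := hexA _ h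
      refine hcA ?_
      have : c • P = q ^ (10 * j + i) • P := by
        rw [pow_add, mul_smul, hi, ← mul_smul c, (hc.pow_right j).eq, mul_smul, ← mul_smul, ← pow_add,
          show 10 * j + j = 11 * j by ring, pow_mul, hq11, one_pow, one_smul]
      rw [this]; exact hmemA _
    · rw [hcomp, Finset.card_image_of_injective _ (MulAction.injective c), hAcard]
  -- a commuting element fixing `P` is trivial
  have hfix1 : ∀ d : G, Commute d q → d • P = P → d = 1 := by
    intro d hd hdP
    refine hno d (hG.smul_self_iff.mpr hdP) (hG.faithful fun R => ?_)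
    have hfixA : ∀ j : ℕ, d • q ^ j • P = q ^ j • P := fun j => by
      rw [← mul_smul, (hd.pow_right j).eq, mul_smul, hdP]
    by_cases hR : R ∈ A
    · obtain ⟨j, rfl⟩ := hexA _ hR
      have hs : d ∈ MulAction.stabilizer G (q ^ j • P) := MulAction.mem_stabilizer_iff.mpr (hfixA j)
      have hs' : d ^ 11 ∈ MulAction.stabilizer G (q ^ j • P) := pow_mem hs 11
      exact MulAction.mem_stabilizer_iff.mp hs'
    · have hdR : d • R ∉ A := by
        intro h
        obtain ⟨j, hj⟩ := hexA _ h
        refine hR ?_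
        have : R = q ^ j • P := smul_left_cancel d (by rw [← hj, hfixA])
        rw [this]; exact hmemA j
      have hBA : (Finset.range 11).image (fun i => q ^ i • R) = Aᶜ := by
        refine Finset.eq_of_subset_of_card_le ?_ ?_
        · intro T hT
          obtain ⟨i, -, rfl⟩ := Finset.mem_image.mp hT
          rw [Finset.mem_compl]
          intro h
          obtain ⟨j, hj⟩ := hexA _ h
          refine hR ?_
          have : R = q ^ (10 * i + j) • P := by
            rw [pow_add, mul_smul, hj, ← mul_smul, ← pow_add, show 10 * i + i = 11 * i by ring,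
              pow_mul, hq11, one_pow, one_smul]
          rw [this]; exact hmemA _
        · rw [hcomp, hinj R]
      have hdB : d • R ∈ (Finset.range 11).image (fun i => q ^ i • R) := by
        rw [hBA, Finset.mem_compl]
        exact hdR
      obtain ⟨b, -, hb⟩ := Finset.mem_image.mp hdB
      have hpow : ∀ m : ℕ, d ^ m • R = q ^ (b * m) • R := by
        intro m
        induction m with
        | zero => simp
        | succ m ih =>
          rw [pow_succ, mul_smul, ← hb, ← mul_smul, ((hd.pow_left m).pow_right b).eq, mul_smul, ih,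
            ← mul_smul, ← pow_add]
          congr 2
          ring
      rw [hpow 11, mul_comm, pow_mul, hq11, one_pow, one_smul]
  have hkeep : ∀ c : G, Commute c q → c • P ∈ A → ∃ i : ℕ, c = q ^ i := by
    intro c hc hcA
    obtain ⟨i₀, he₀⟩ := hexA _ hcA
    obtain ⟨i, hi, he⟩ : ∃ i, i < 11 ∧ q ^ i • P = c • P :=
      ⟨i₀ % 11, Nat.mod_lt _ (by norm_num), by rw [← hoq, pow_mod_orderOf, he₀]⟩
    have hd1 := hfix1 (q ^ (11 - i) * c) ((Commute.pow_self q _).mul_left hc) (by
      rw [mul_smul, ← he, ← mul_smul, ← pow_add, Nat.sub_add_cancel hi.le, hq11, one_smul])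
    refine ⟨i, ?_⟩
    calc c = q ^ i * (q ^ (11 - i) * c) := by
          rw [← mul_assoc, ← pow_add, Nat.add_sub_cancel' hi.le, hq11, one_mul]
      _ = q ^ i := by rw [hd1, mul_one]
  by_contra hcon
  have hcA : c • P ∉ A := fun h => hcon (hkeep c hc h)
  have hc2 : (c * c) • P ∈ A := by
    by_contra h
    rw [mul_smul, ← Finset.mem_compl, ← hflip c hc hcA] at h
    obtain ⟨R, hR, hRe⟩ := Finset.mem_image.mp h
    exact hcA (smul_left_cancel c hRe ▸ hR)
  obtain ⟨i, hi⟩ := hkeep (c * c) (hc.mul_left hc) hc2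
  set t := c * q ^ (5 * i) with ht
  have hct : Commute c (q ^ (5 * i)) := hc.pow_right _
  have htt : t * t = 1 := by
    rw [ht, ← hct.mul_mul_mul_comm, hi, ← pow_add, ← pow_add,
      show i + (5 * i + 5 * i) = 11 * i by ring, pow_mul, hq11, one_pow]
  have htq : Commute t q := hc.mul_left (Commute.pow_self q _)
  have htA : t • P ∉ A := by
    intro h
    obtain ⟨j, hj⟩ := hkeep t htq h
    refine hcon ⟨j + 6 * i, ?_⟩
    have : c = t * q ^ (6 * i) := by
      rw [ht, mul_assoc, ← pow_add, show 5 * i + 6 * i = 11 * i by ring, pow_mul, hq11, one_pow, mul_one]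
    rw [this, hj, pow_add]
  have ht1 : t ≠ 1 := fun h => htA (by rw [h, one_smul]; exact hPA)
  have hmoved := hG.four_dvd_moved htt ht1
  have himg := hflip t htq htA
  have hall : Nat.card {Q : Sylow 3 G // t • Q ≠ Q} = 22 := by
    rw [← hG.card_sylow]
    refine Nat.card_congr (Equiv.subtypeUnivEquiv fun Q h => ?_)
    by_cases hQ : Q ∈ A
    · have := Finset.mem_image_of_mem (fun R => t • R) hQ
      rw [himg, Finset.mem_compl] at this
      exact this (show t • Q ∈ A by rw [h]; exact hQ)
    · have hm : Q ∈ A.image (fun R => t • R) := by rw [himg]; simpa using hQ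
      obtain ⟨R, hR, hRe⟩ := Finset.mem_image.mp hm
      exact hQ ((smul_left_cancel t (hRe.trans h.symm)) ▸ hR)
  rw [hall] at hmoved
  omega

/-- The data for the prime 11. -/
theorem eleven (P : Sylow 3 G)
    (h11 : ¬ 11 ∣ Nat.card (Subgroup.normalizer ((P : Subgroup G) : Set G))) :
    ∃ e n, (e = 2 ∨ e = 5 ∨ e = 10) ∧ n % 11 = 1 ∧ Nat.card G = 11 * e * n ∧
      e ∣ 2 * Nat.card (Subgroup.normalizer ((P : Subgroup G) : Set G)) := by
  classical
  haveI : Fact (Nat.Prime 11) := ⟨by norm_num⟩
  set N := Subgroup.normalizer ((P : Subgroup G) : Set G) with hN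
  have hcard : Nat.card G = Nat.card N * 22 := by
    rw [← hG.normalizer_index P]; exact (Subgroup.card_mul_index N).symm
  obtain ⟨S⟩ : Nonempty (Sylow 11 G) := inferInstance
  have hS : Nat.card (S : Subgroup G) = 11 := by
    rw [S.card_eq_multiplicity, hcard, show Nat.card N * 22 = (Nat.card N * 2) * 11 by ring,
      Nat.factorization_mul (by have := Nat.card_pos (α := N); omega) (by norm_num),
      Finsupp.add_apply, Nat.factorization_eq_zero_of_not_dvd, (Fact.out : Nat.Prime 11).factorization_self]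
    · rfl
    · intro h
      rcases (Fact.out : Nat.Prime 11).dvd_mul.mp h with h | h
      · exact h11 h
      · omega
  haveI : IsCyclic (S : Subgroup G) := isCyclic_of_prime_card hS
  obtain ⟨q₀, hq₀⟩ := IsCyclic.exists_generator (α := (S : Subgroup G))
  set q : G := (q₀ : G) with hq
  have hoq : orderOf q = 11 := by
    rw [hq, Subgroup.orderOf_coe, orderOf_eq_card_of_forall_mem_zpowers hq₀, hS]
  have hcent : ∀ c : G, c * q = q * c → ∃ i : ℕ, c = q ^ i := fun c hc => hG.eleven_cent P h11 hoq hc
  set M := Subgroup.normalizer ((S : Subgroup G) : Set G) with hM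
  set C := Subgroup.centralizer ((S : Subgroup G) : Set G) with hC
  have hSM : (S : Subgroup G) ≤ M := Subgroup.le_normalizer
  have hCS : C ≤ (S : Subgroup G) := by
    intro c hc
    obtain ⟨i, rfl⟩ := hcent c (Subgroup.mem_centralizer_iff.mp hc q q₀.2).symm
    exact pow_mem q₀.2 i
  set f := Subgroup.normalizerMonoidHom (S : Subgroup G) with hf
  have hker : Nat.card f.ker = 11 := by
    have hle : (S : Subgroup G) ≤ C := by
      intro a ha
      refine Subgroup.mem_centralizer_iff.mpr fun b hb => ?_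
      exact congrArg Subtype.val
        (IsCyclic.commGroup.mul_comm (⟨b, hb⟩ : (S : Subgroup G)) ⟨a, ha⟩)
    rw [hf, Subgroup.normalizerMonoidHom_ker, ← hC, ← hM, le_antisymm hCS hle,
      Nat.card_congr (Subgroup.subgroupOfEquivOfLe hSM).toEquiv, hS]
  set e := Nat.card f.range with he
  have hMcard : Nat.card M = 11 * e := by
    rw [← Subgroup.card_mul_index f.ker, Subgroup.index_ker, hker]
  have he10 : e ∣ 10 := by
    have h := Subgroup.card_subgroup_dvd_card f.range
    rwa [IsCyclic.card_mulAut, hS, Nat.totient_prime (Fact.out : Nat.Prime 11)] at h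
  have he1 : e ≠ 1 := by
    intro h1
    have hle : M ≤ C := by
      intro x hx
      have : (⟨x, hx⟩ : M) ∈ f.ker := by
        rw [MonoidHom.mem_ker]
        haveI := (Nat.card_eq_one_iff_unique.mp h1).1
        exact congrArg Subtype.val (Subsingleton.elim (⟨f ⟨x, hx⟩, _, rfl⟩ : f.range) 1)
      rwa [hf, Subgroup.normalizerMonoidHom_ker] at this
    set K := (MonoidHom.transferSylow S hle).ker
    have hKc := MonoidHom.ker_transferSylow_isComplement' S hle
    have hKidx : K.index = 11 := hKc.symm.index_eq_card.trans hS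
    rcases hG.eq_bot_or_top (M := K) inferInstance with hK | hK
    · rw [hK, Subgroup.index_bot, hcard] at hKidx
      omega
    · rw [hK, Subgroup.index_top] at hKidx
      omega
  have hn : Nat.card (Sylow 11 G) % 11 = 1 := card_sylow_modEq_one 11 G
  refine ⟨e, Nat.card (Sylow 11 G), ?_, hn, ?_, ?_⟩
  · have := Nat.le_of_dvd (by norm_num) he10
    interval_cases e <;> omega
  · rw [S.card_eq_index_normalizer, ← S.coe_coe, ← hM, ← hMcard, Subgroup.card_mul_index]
  · have h1 : 11 * e ∣ 11 * (2 * Nat.card N) := by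
      rw [← hMcard, show 11 * (2 * Nat.card N) = Nat.card N * 22 by ring, ← hcard]
      exact Subgroup.card_subgroup_dvd_card M
    exact Nat.dvd_of_mul_dvd_mul_left (by norm_num) h1

end Config

end CfsgLib.SylowNumber.TwentyTwo
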