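import Mathlib
import Cfsg.Agent.Lib.SylowNumber.TwentyTwo.Basic

/-!
Twenty-two Sylow `3`-subgroups of order at least 9: the lines have size 4 and there are four of
them through every point, and the Sylow subgroups have order 9.
-/

namespace CfsgLib.SylowNumber.TwentyTwo

open scoped Pointwise
open scoped Classical

set_option linter.style.haveILetI false
set_option linter.unusedSectionVars false

variable {G : Type*} [Group G] [Finite G] [Fact (Nat.Prime 3)]

/-- `Q` lies in an orbit of length 3 of `P`. -/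
def Nb (P Q : Sylow 3 G) : Prop :=
  Q ≠ P ∧ (MulAction.orbit (P : Subgroup G) Q).ncard = 3

/-- The Sylow subgroups containing `D`. -/
noncomputable def line (D : Subgroup G) : Finset (Sylow 3 G) :=
  haveI : Fintype (Sylow 3 G) := Fintype.ofFinite _
  Finset.univ.filter fun R => D ≤ (R : Subgroup G)

theorem mem_line {D : Subgroup G} {R : Sylow 3 G} : R ∈ line D ↔ D ≤ (R : Subgroup G) := by
  haveI : Fintype (Sylow 3 G) := Fintype.ofFinite _
  simp [line]

/-- The points at distance one and two. -/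
noncomputable def nbs (P : Sylow 3 G) : Finset (Sylow 3 G) :=
  haveI : Fintype (Sylow 3 G) := Fintype.ofFinite _
  Finset.univ.filter fun Q => Nb P Q

/-- The lines through `P`. -/
noncomputable def linesThrough (P : Sylow 3 G) : Finset (Finset (Sylow 3 G)) :=
  (nbs P).image fun Q : Sylow 3 G => line ((P : Subgroup G) ⊓ Q)

theorem mem_nbs {P Q : Sylow 3 G} : Q ∈ nbs P ↔ Nb P Q := by
  haveI : Fintype (Sylow 3 G) := Fintype.ofFinite _
  simp [nbs]

namespace Config

variable (hG : Config G)
include hG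

theorem card_nb_eq {P Q : Sylow 3 G} (h : Nb P Q) :
    Nat.card (P : Subgroup G) = 3 * Nat.card ((P : Subgroup G) ⊓ Q : Subgroup G) := by
  rw [hG.card_eq_orbit_mul P Q, h.2]

theorem card_sylow_eq (P Q : Sylow 3 G) :
    Nat.card (P : Subgroup G) = Nat.card (Q : Subgroup G) :=
  Nat.card_congr (Sylow.equiv P Q).toEquiv

theorem nb_of_card {P Q : Sylow 3 G} (hne : Q ≠ P)
    (h : Nat.card (P : Subgroup G) ≤ 3 * Nat.card ((P : Subgroup G) ⊓ Q : Subgroup G)) :
    Nb P Q := by
  refine ⟨hne, (hG.orbit_ncard hne).resolve_right fun h9 => ?_⟩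
  rw [hG.card_eq_orbit_mul P Q, h9] at h
  have : 0 < Nat.card ((P : Subgroup G) ⊓ Q : Subgroup G) := Nat.card_pos
  omega

theorem nb_symm {P Q : Sylow 3 G} (h : Nb P Q) : Nb Q P := by
  refine hG.nb_of_card h.1.symm ?_
  rw [inf_comm, hG.card_sylow_eq Q P, hG.card_nb_eq h]

theorem nb_of_mem_orbit {P Q R : Sylow 3 G} (h : Nb P Q)
    (hR : R ∈ MulAction.orbit (P : Subgroup G) Q) : Nb P R := by
  refine ⟨hG.ne_of_mem_orbit h.1 hR, ?_⟩
  rw [MulAction.orbit_eq_iff.mpr hR]
  exact h.2

/-- The intersection with a neighbour is normal. -/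
theorem stabilizer_normal {P Q : Sylow 3 G} (h : Nb P Q) :
    (MulAction.stabilizer (P : Subgroup G) Q).Normal := by
  refine Subgroup.normal_of_index_eq_minFac_card ?_
  obtain ⟨n, hn⟩ := IsPGroup.iff_card.mp P.2
  rw [MulAction.index_stabilizer, h.2, hn]
  match n with
  | 0 =>
    have := hG.card_nb_eq h
    rw [hn, pow_zero] at this
    omega
  | n + 1 => rw [Nat.pow_minFac (by omega), (Fact.out : Nat.Prime 3).minFac_eq]

theorem inf_normal {P Q : Sylow 3 G} (h : Nb P Q) :
    (((P : Subgroup G) ⊓ Q).subgroupOf (P : Subgroup G)).Normal := by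
  rw [Subgroup.inf_subgroupOf_left, ← stabilizer_eq_inf]
  exact hG.stabilizer_normal h

theorem inf_eq_of_mem_orbit {P Q R : Sylow 3 G} (h : Nb P Q)
    (hR : R ∈ MulAction.orbit (P : Subgroup G) Q) :
    (P : Subgroup G) ⊓ R = (P : Subgroup G) ⊓ Q := by
  obtain ⟨x, rfl⟩ := hR
  haveI := hG.stabilizer_normal h
  have h := MulAction.stabilizer_smul_eq_stabilizer_map_conj x Q
  rw [show Subgroup.map (MulAut.conj x).toMonoidHom (MulAction.stabilizer (P : Subgroup G) Q) =
    MulAut.conj x • MulAction.stabilizer (P : Subgroup G) Q from rfl,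
    Subgroup.Normal.conj_smul_eq_self x (MulAction.stabilizer (P : Subgroup G) Q)] at h
  rw [stabilizer_eq_inf, stabilizer_eq_inf, Subgroup.subgroupOf_inj, inf_comm,
    inf_comm (Q : Subgroup G)] at h
  exact h

/-- Two members of a line are neighbours and meet exactly in it. -/
theorem line_pair {P Q R R' : Sylow 3 G} (h : Nb P Q)
    (hR : R ∈ line ((P : Subgroup G) ⊓ Q)) (hR' : R' ∈ line ((P : Subgroup G) ⊓ Q)) (hne : R' ≠ R) :
    Nb R R' ∧ (R : Subgroup G) ⊓ R' = (P : Subgroup G) ⊓ Q := by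
  have hle : (P : Subgroup G) ⊓ Q ≤ (R : Subgroup G) ⊓ R' := le_inf (mem_line.mp hR) (mem_line.mp hR')
  have hc := Subgroup.card_le_of_le hle
  have h1 := hG.card_nb_eq h
  have h2 := hG.card_sylow_eq P R
  have hnb : Nb R R' := hG.nb_of_card hne (by omega)
  have h3 := hG.card_nb_eq hnb
  exact ⟨hnb, (Subgroup.eq_of_le_of_card_ge hle (by omega)).symm⟩

theorem self_mem_line {P Q : Sylow 3 G} :
    P ∈ line ((P : Subgroup G) ⊓ Q) ∧ Q ∈ line ((P : Subgroup G) ⊓ Q) :=
  ⟨mem_line.mpr inf_le_left, mem_line.mpr inf_le_right⟩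

theorem mem_linesThrough {P : Sylow 3 G} {l : Finset (Sylow 3 G)} :
    l ∈ linesThrough P ↔ ∃ Q, Nb P Q ∧ line ((P : Subgroup G) ⊓ Q) = l := by
  simp [linesThrough, mem_nbs]

/-- A line through `P` is a line through each of its points. -/
theorem linesThrough_of_mem {P R : Sylow 3 G} {l : Finset (Sylow 3 G)} (hl : l ∈ linesThrough P)
    (hR : R ∈ l) : l ∈ linesThrough R := by
  obtain ⟨Q, hQ, rfl⟩ := hG.mem_linesThrough.mp hl
  obtain ⟨T, hT, hTne⟩ : ∃ T ∈ line ((P : Subgroup G) ⊓ Q), T ≠ R := by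
    by_cases h : P = R
    · exact ⟨Q, hG.self_mem_line.2, h ▸ hQ.1⟩
    · exact ⟨P, hG.self_mem_line.1, h⟩
  obtain ⟨h1, h2⟩ := hG.line_pair hQ hR hT hTne
  exact hG.mem_linesThrough.mpr ⟨T, h1, by rw [h2]⟩

theorem mem_of_mem_linesThrough {P : Sylow 3 G} {l : Finset (Sylow 3 G)}
    (hl : l ∈ linesThrough P) : P ∈ l := by
  obtain ⟨Q, -, rfl⟩ := hG.mem_linesThrough.mp hl
  exact hG.self_mem_line.1

/-- The fibre of `Q ↦` line of `P, Q`. -/
theorem fibre_eq {P : Sylow 3 G} {l : Finset (Sylow 3 G)} (hl : l ∈ linesThrough P) :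
    (nbs P).filter (fun Q : Sylow 3 G => line ((P : Subgroup G) ⊓ Q) = l) = l.erase P := by
  ext R
  rw [Finset.mem_filter, Finset.mem_erase, mem_nbs]
  constructor
  · rintro ⟨h1, rfl⟩
    exact ⟨h1.1, hG.self_mem_line.2⟩
  · rintro ⟨hne, hR⟩
    obtain ⟨Q, hQ, rfl⟩ := hG.mem_linesThrough.mp hl
    obtain ⟨h1, h2⟩ := hG.line_pair hQ hG.self_mem_line.1 hR hne
    exact ⟨h1, by rw [h2]⟩

theorem card_nbs_eq_sum (P : Sylow 3 G) :
    (nbs P).card = ∑ l ∈ linesThrough P, (l.card - 1) := by
  rw [Finset.card_eq_sum_card_image (fun Q : Sylow 3 G => line ((P : Subgroup G) ⊓ Q)) (nbs P)]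
  refine Finset.sum_congr rfl fun l hl => ?_
  rw [hG.fibre_eq hl, Finset.card_erase_of_mem (hG.mem_of_mem_linesThrough hl)]

/-- A set of points stable under `P` and free of `P` that consists of orbits of length `k` has
size divisible by `k`. -/
theorem dvd_card_of_orbits {P : Sylow 3 G} (s : Finset (Sylow 3 G)) (k : ℕ)
    (h : ∀ R ∈ s, (MulAction.orbit (P : Subgroup G) R).ncard = k ∧
      ∀ T ∈ MulAction.orbit (P : Subgroup G) R, T ∈ s) : k ∣ s.card := by
  haveI : Fintype (Sylow 3 G) := Fintype.ofFinite _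
  rw [Finset.card_eq_sum_card_image
    (fun R : Sylow 3 G => (MulAction.orbit (P : Subgroup G) R).toFinset) s]
  refine Finset.dvd_sum fun o ho => ?_
  obtain ⟨R, hR, rfl⟩ := Finset.mem_image.mp ho
  have hset : s.filter (fun T => (MulAction.orbit (P : Subgroup G) T).toFinset =
      (MulAction.orbit (P : Subgroup G) R).toFinset) = (MulAction.orbit (P : Subgroup G) R).toFinset := by
    ext T
    rw [Finset.mem_filter, Set.toFinset_inj, Set.mem_toFinset]
    exact ⟨fun hT => hT.2 ▸ MulAction.mem_orbit_self T,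
      fun hT => ⟨(h R hR).2 T hT, MulAction.orbit_eq_iff.mpr hT⟩⟩
  rw [hset, ← Set.ncard_eq_toFinset_card', (h R hR).1]

theorem three_dvd_line {P : Sylow 3 G} {l : Finset (Sylow 3 G)} (hl : l ∈ linesThrough P) :
    3 ∣ l.card - 1 := by
  rw [← Finset.card_erase_of_mem (hG.mem_of_mem_linesThrough hl)]
  refine hG.dvd_card_of_orbits (P := P) _ 3 fun R hR => ?_
  rw [← hG.fibre_eq hl, Finset.mem_filter, mem_nbs] at hR
  refine ⟨hR.1.2, fun T hT => ?_⟩
  rw [← hG.fibre_eq hl, Finset.mem_filter, mem_nbs]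
  exact ⟨hG.nb_of_mem_orbit hR.1 hT, by rw [hG.inf_eq_of_mem_orbit hR.1 hT]; exact hR.2⟩

theorem linesThrough_smul (g : G) (P : Sylow 3 G) :
    linesThrough (g • P) = (linesThrough P).image (fun l => l.image (fun R => g • R)) := by
  have hline : ∀ R T : Sylow 3 G, ∀ g : G,
      line (((g • R : Sylow 3 G) : Subgroup G) ⊓ (g • T : Sylow 3 G)) =
        (line ((R : Subgroup G) ⊓ T)).image (fun X => g • X) := by
    intro R T g
    ext X
    rw [mem_line, Finset.mem_image, Sylow.coe_subgroup_smul, Sylow.coe_subgroup_smul,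
      ← Subgroup.smul_inf]
    constructor
    · intro h
      refine ⟨g⁻¹ • X, mem_line.mpr ?_, smul_inv_smul g X⟩
      rw [Sylow.coe_subgroup_smul, map_inv, ← Subgroup.pointwise_smul_subset_iff]
      exact h
    · rintro ⟨Y, hY, rfl⟩
      rw [Sylow.coe_subgroup_smul, Subgroup.pointwise_smul_le_pointwise_smul_iff]
      exact mem_line.mp hY
  have hnb : ∀ R T : Sylow 3 G, ∀ g : G, Nb R T → Nb (g • R) (g • T) := by
    intro R T g h
    refine hG.nb_of_card (fun he => h.1 (smul_left_cancel g he)) ?_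
    rw [Sylow.coe_subgroup_smul, Sylow.coe_subgroup_smul, ← Subgroup.smul_inf,
      Nat.card_congr (Subgroup.equivSMul (MulAut.conj g) ((R : Subgroup G) ⊓ T)).symm.toEquiv,
      Nat.card_congr (Subgroup.equivSMul (MulAut.conj g) (R : Subgroup G)).symm.toEquiv]
    exact (hG.card_nb_eq h).le
  ext l
  rw [hG.mem_linesThrough, Finset.mem_image]
  constructor
  · rintro ⟨T, hT, rfl⟩
    have hT' := hnb _ _ g⁻¹ hT
    rw [inv_smul_smul] at hT'
    refine ⟨_, hG.mem_linesThrough.mpr ⟨_, hT', rfl⟩, ?_⟩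
    conv_rhs => rw [← smul_inv_smul g T, hline]
  · rintro ⟨m, hm, rfl⟩
    obtain ⟨T, hT, rfl⟩ := hG.mem_linesThrough.mp hm
    exact ⟨g • T, hnb _ _ g hT, hline _ _ g⟩

variable (h9 : ∀ P : Sylow 3 G, 9 ≤ Nat.card (P : Subgroup G))
include h9

theorem line_card_le {P : Sylow 3 G} {l : Finset (Sylow 3 G)} (hl : l ∈ linesThrough P) :
    4 ≤ l.card ∧ l.card < 22 := by
  haveI : Fintype (Sylow 3 G) := Fintype.ofFinite _
  obtain ⟨Q, hQ, rfl⟩ := hG.mem_linesThrough.mp hl
  constructor
  · have h3 := hG.three_dvd_line hl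
    have h2 : 2 ≤ (line ((P : Subgroup G) ⊓ Q)).card :=
      Finset.one_lt_card.mpr ⟨P, hG.self_mem_line.1, Q, hG.self_mem_line.2, hQ.1.symm⟩
    omega
  · by_contra hge
    have hall : line ((P : Subgroup G) ⊓ Q) = Finset.univ := by
      refine Finset.eq_univ_of_card _ (le_antisymm (Finset.card_le_univ _) ?_)
      rw [← Nat.card_eq_fintype_card, hG.card_sylow]
      omega
    have hbot : (P : Subgroup G) ⊓ Q = ⊥ := (Subgroup.eq_bot_iff_forall _).mpr fun d hd =>
      hG.faithful fun X => hG.smul_self_of_mem (mem_line.mp (hall ▸ Finset.mem_univ X) hd)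
    have := hG.card_nb_eq hQ
    rw [hbot, Subgroup.card_bot] at this
    have := h9 P
    omega

/-- All lines have size 4, and four of them pass through every point. -/
theorem four_lines (P : Sylow 3 G) :
    (∀ l ∈ linesThrough P, l.card = 4) ∧ (linesThrough P).card = 4 ∧ (nbs P).card = 12 := by
  haveI : Fintype (Sylow 3 G) := Fintype.ofFinite _
  -- the number of lines of each size through a point is constant
  set all : Finset (Finset (Sylow 3 G)) := Finset.univ.biUnion (fun R => linesThrough R) with hall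
  have hconst : ∀ (m : ℕ) (R : Sylow 3 G),
      ((linesThrough R).filter (fun l => l.card = m)).card =
        ((linesThrough P).filter (fun l => l.card = m)).card := by
    intro m R
    obtain ⟨g, rfl⟩ := hG.exists_smul_eq P R
    rw [hG.linesThrough_smul g P, Finset.filter_image, Finset.card_image_of_injective _
      (Finset.image_injective (MulAction.injective g))]
    congr 1
    ext l
    simp [Finset.card_image_of_injective _ (MulAction.injective g)]
  have hdvd : ∀ m : ℕ, m ∣ 22 * ((linesThrough P).filter (fun l => l.card = m)).card := by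
    intro m
    have hcount := Finset.sum_card_bipartiteAbove_eq_sum_card_bipartiteBelow
      (fun (l : Finset (Sylow 3 G)) (R : Sylow 3 G) => R ∈ l)
      (s := all.filter (fun l => l.card = m)) (t := Finset.univ)
    have hrow : ∀ l ∈ all.filter (fun l => l.card = m),
        (Finset.bipartiteAbove (fun (l : Finset (Sylow 3 G)) (R : Sylow 3 G) => R ∈ l)
          Finset.univ l).card = m := by
      intro l hl
      rw [Finset.bipartiteAbove, Finset.filter_mem_eq_inter, Finset.univ_inter]
      exact (Finset.mem_filter.mp hl).2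
    have hcol : ∀ R ∈ (Finset.univ : Finset (Sylow 3 G)),
        (Finset.bipartiteBelow (fun (l : Finset (Sylow 3 G)) (R : Sylow 3 G) => R ∈ l)
          (all.filter (fun l => l.card = m)) R).card =
          ((linesThrough P).filter (fun l => l.card = m)).card := by
      intro R _
      rw [← hconst m R]
      congr 1
      ext l
      simp only [Finset.mem_bipartiteBelow, Finset.mem_filter, hall, Finset.mem_biUnion,
        Finset.mem_univ, true_and]
      constructor
      · rintro ⟨⟨⟨S, hS⟩, hm⟩, hR⟩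
        exact ⟨hG.linesThrough_of_mem hS hR, hm⟩
      · rintro ⟨hl, hm⟩
        exact ⟨⟨⟨R, hl⟩, hm⟩, hG.mem_of_mem_linesThrough hl⟩
    rw [Finset.sum_congr rfl hrow, Finset.sum_congr rfl hcol, Finset.sum_const, Finset.sum_const,
      smul_eq_mul, smul_eq_mul, Finset.card_univ, ← Nat.card_eq_fintype_card, hG.card_sylow] at hcount
    exact Dvd.intro_left _ hcount
  have hsum := hG.card_nbs_eq_sum P
  have hle : (nbs P).card ≤ 21 := by
    refine le_trans (Finset.card_le_card (t := Finset.univ.erase P) fun R hR => ?_) ?_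
    · exact Finset.mem_erase.mpr ⟨(mem_nbs.mp hR).1, Finset.mem_univ _⟩
    · rw [Finset.card_erase_of_mem (Finset.mem_univ _), Finset.card_univ,
        ← Nat.card_eq_fintype_card, hG.card_sylow]
  have h4 : ∀ l ∈ linesThrough P, l.card = 4 := by
    intro l hl
    obtain ⟨hlo, hhi⟩ := hG.line_card_le h9 hl
    have h3 := hG.three_dvd_line hl
    have hd := hdvd l.card
    have hk : 0 < ((linesThrough P).filter (fun l' => l'.card = l.card)).card :=
      Finset.card_pos.mpr ⟨l, Finset.mem_filter.mpr ⟨hl, rfl⟩⟩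
    have hk' : ((linesThrough P).filter (fun l' => l'.card = l.card)).card * (l.card - 1) ≤ 21 := by
      refine le_trans ?_ (hsum ▸ hle)
      calc ((linesThrough P).filter (fun l' => l'.card = l.card)).card * (l.card - 1)
          = ∑ l' ∈ (linesThrough P).filter (fun l' => l'.card = l.card), (l'.card - 1) := by
            rw [Finset.sum_congr rfl (g := fun _ => l.card - 1)
              (fun l' hl' => by rw [(Finset.mem_filter.mp hl').2]), Finset.sum_const, smul_eq_mul]
        _ ≤ _ := Finset.sum_le_sum_of_subset (Finset.filter_subset _ _)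
    by_contra hne
    set k := ((linesThrough P).filter (fun l' => l'.card = l.card)).card
    set m := l.card
    have hm6 : 6 ≤ m - 1 := by omega
    have hk3 : k ≤ 3 := by nlinarith
    interval_cases m <;> interval_cases k <;> omega
  have hsum4 : (nbs P).card = (linesThrough P).card * 3 := by
    rw [hsum, Finset.sum_congr rfl (g := fun _ => 3) (fun l hl => by rw [h4 l hl]),
      Finset.sum_const, smul_eq_mul]
  have hd4 := hdvd 4
  rw [Finset.filter_true_of_mem h4] at hd4
  -- the other points form orbits of length 9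
  have h9dvd : 9 ∣ ((Finset.univ.erase P) \ nbs P).card := by
    refine hG.dvd_card_of_orbits (P := P) _ 9 fun R hR => ?_
    rw [Finset.mem_sdiff, Finset.mem_erase, mem_nbs] at hR
    refine ⟨(hG.orbit_ncard hR.1.1).resolve_left fun h => hR.2 ⟨hR.1.1, h⟩, fun T hT => ?_⟩
    rw [Finset.mem_sdiff, Finset.mem_erase, mem_nbs]
    refine ⟨⟨hG.ne_of_mem_orbit hR.1.1 hT, Finset.mem_univ _⟩, fun hnb => hR.2 ⟨hR.1.1, ?_⟩⟩
    rw [← MulAction.orbit_eq_iff.mpr hT]
    exact hnb.2
  have hsub : nbs P ⊆ Finset.univ.erase P := fun R hR =>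
    Finset.mem_erase.mpr ⟨(mem_nbs.mp hR).1, Finset.mem_univ _⟩
  rw [Finset.card_sdiff_of_subset hsub, Finset.card_erase_of_mem (Finset.mem_univ _), Finset.card_univ,
    ← Nat.card_eq_fintype_card, hG.card_sylow] at h9dvd
  have hk7 : (linesThrough P).card ≤ 7 := by omega
  refine ⟨h4, ?_, ?_⟩ <;> omega

end Config

end CfsgLib.SylowNumber.TwentyTwo
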