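import Mathlib
import Cfsg.Agent.Lib.SylowNumber.TwentyTwo.Lines

/-!
Twenty-two Sylow `3`-subgroups of order at least 9 are impossible.
-/

namespace CfsgLib.SylowNumber.TwentyTwo

open scoped Pointwise
open scoped Classical

set_option linter.style.haveILetI false
set_option linter.unusedSectionVars false

variable {G : Type*} [Group G] [Finite G] [Fact (Nat.Prime 3)]

namespace Config

variable (hG : Config G) (h9 : ∀ P : Sylow 3 G, 9 ≤ Nat.card (P : Subgroup G))
include hG h9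

/-- The points outside the lines through `P` form one orbit of length 9. -/
theorem far_orbit {P X : Sylow 3 G} (hX : X ≠ P) (hXn : ¬ Nb P X) :
    (MulAction.orbit (P : Subgroup G) X).ncard = 9 ∧
      ∀ Y : Sylow 3 G, Y ≠ P → ¬ Nb P Y → Y ∈ MulAction.orbit (P : Subgroup G) X := by
  haveI : Fintype (Sylow 3 G) := Fintype.ofFinite _
  have ho : (MulAction.orbit (P : Subgroup G) X).ncard = 9 :=
    (hG.orbit_ncard hX).resolve_left fun h => hXn ⟨hX, h⟩
  refine ⟨ho, fun Y hY hYn => ?_⟩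
  have hsub : (MulAction.orbit (P : Subgroup G) X).toFinset ⊆ Finset.univ.erase P \ nbs P := by
    intro T hT
    rw [Set.mem_toFinset] at hT
    rw [Finset.mem_sdiff, Finset.mem_erase, mem_nbs]
    refine ⟨⟨hG.ne_of_mem_orbit hX hT, Finset.mem_univ _⟩, fun hnb => hXn ⟨hX, ?_⟩⟩
    rw [← MulAction.orbit_eq_iff.mpr hT]
    exact hnb.2
  have hs : (Finset.univ.erase P \ nbs P).card = 9 := by
    rw [Finset.card_sdiff_of_subset (fun R hR => Finset.mem_erase.mpr
      ⟨(mem_nbs.mp hR).1, Finset.mem_univ _⟩), (hG.four_lines h9 P).2.2,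
      Finset.card_erase_of_mem (Finset.mem_univ _), Finset.card_univ, ← Nat.card_eq_fintype_card,
      hG.card_sylow]
  have he := Finset.eq_of_subset_of_card_le hsub (by
    rw [hs, ← Set.ncard_eq_toFinset_card', ho])
  rw [← Set.mem_toFinset, he, Finset.mem_sdiff, Finset.mem_erase, mem_nbs]
  exact ⟨⟨hY, Finset.mem_univ _⟩, hYn⟩

theorem exists_far (P : Sylow 3 G) : ∃ X, X ≠ P ∧ ¬ Nb P X := by
  haveI : Fintype (Sylow 3 G) := Fintype.ofFinite _
  by_contra h
  push Not at h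
  have hsub : Finset.univ.erase P ⊆ nbs P := fun R hR => mem_nbs.mpr (h R (Finset.mem_erase.mp hR).1)
  have := Finset.card_le_card hsub
  rw [(hG.four_lines h9 P).2.2, Finset.card_erase_of_mem (Finset.mem_univ _), Finset.card_univ,
    ← Nat.card_eq_fintype_card, hG.card_sylow] at this
  omega

theorem smul_far {P X : Sylow 3 G} (g : G) (hX : X ≠ P) (hXn : ¬ Nb P X) :
    g • X ≠ g • P ∧ ¬ Nb (g • P) (g • X) := by
  refine ⟨fun h => hX (smul_left_cancel g h), fun h => hXn (hG.nb_of_card hX ?_)⟩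
  have h1 := hG.card_nb_eq h
  rw [Sylow.coe_subgroup_smul, Sylow.coe_subgroup_smul, ← Subgroup.smul_inf,
    Nat.card_congr (Subgroup.equivSMul (MulAut.conj g) ((P : Subgroup G) ⊓ X)).symm.toEquiv,
    Nat.card_congr (Subgroup.equivSMul (MulAut.conj g) (P : Subgroup G)).symm.toEquiv] at h1
  exact h1.le

/-- Neighbours have different sets of far points. -/
theorem exists_far_not_far {P Q : Sylow 3 G} (hQ : Nb P Q) :
    ∃ X, X ≠ P ∧ ¬ Nb P X ∧ Nb Q X := by
  by_contra h
  push Not at h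
  -- the set of far points of `P` is the set of far points of `Q`
  have hsame : ∀ X, (X ≠ P ∧ ¬ Nb P X) ↔ (X ≠ Q ∧ ¬ Nb Q X) := by
    haveI : Fintype (Sylow 3 G) := Fintype.ofFinite _
    have hs : ∀ R : Sylow 3 G,
        (Finset.univ.filter (fun X => X ≠ R ∧ ¬ Nb R X)).card = 9 := by
      intro R
      obtain ⟨X, hX, hXn⟩ := hG.exists_far h9 R
      obtain ⟨ho, hall⟩ := hG.far_orbit h9 hX hXn
      rw [← ho, Set.ncard_eq_toFinset_card']
      congr 1
      ext Y
      rw [Finset.mem_filter, Set.mem_toFinset]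
      refine ⟨fun hY => hall Y hY.2.1 hY.2.2, fun hY => ⟨Finset.mem_univ _, hG.ne_of_mem_orbit hX hY,
        fun hnb => hXn ⟨hX, ?_⟩⟩⟩
      rw [← MulAction.orbit_eq_iff.mpr hY]
      exact hnb.2
    have he : Finset.univ.filter (fun X => X ≠ P ∧ ¬ Nb P X) =
        Finset.univ.filter (fun X => X ≠ Q ∧ ¬ Nb Q X) := by
      refine Finset.eq_of_subset_of_card_le ?_ (by rw [hs, hs])
      intro X hX
      rw [Finset.mem_filter] at hX ⊢
      exact ⟨hX.1, fun he => hX.2.2 (he ▸ hQ), h X hX.2.1 hX.2.2⟩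
    intro X
    simpa using congrArg (fun s : Finset (Sylow 3 G) => X ∈ s) he
  let H : Subgroup G :=
    { carrier := {g | ∀ X, (X ≠ P ∧ ¬ Nb P X) ↔ (g • X ≠ P ∧ ¬ Nb P (g • X))}
      one_mem' := fun X => by rw [one_smul]
      mul_mem' := fun {a b} ha hb X => by rw [mul_smul]; exact (hb X).trans (ha (b • X))
      inv_mem' := fun {a} ha X => by
        have := ha (a⁻¹ • X)
        rw [smul_inv_smul] at this
        exact this.symm }
  have hiff : ∀ (g : G) (R X : Sylow 3 G),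
      (X ≠ R ∧ ¬ Nb R X) ↔ (g • X ≠ g • R ∧ ¬ Nb (g • R) (g • X)) := by
    intro g R X
    refine ⟨fun hX => hG.smul_far h9 g hX.1 hX.2, fun hX => ?_⟩
    have := hG.smul_far h9 g⁻¹ hX.1 hX.2
    rwa [inv_smul_smul, inv_smul_smul] at this
  obtain ⟨g, hg⟩ := hG.exists_smul_eq P Q
  have hgH : g ∈ H := fun X => by rw [hiff g P X, hg, ← hsame]
  have htop : H = ⊤ := hG.eq_top_of_normalizer_lt P (fun n hn X => by
    rw [hiff n P X, hG.smul_self_iff.mp hn]) hgH (hg.trans_ne hQ.1)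
  obtain ⟨X, hX, hXn⟩ := hG.exists_far h9 P
  obtain ⟨k, hk⟩ := hG.exists_smul_eq X P
  have hkH : k ∈ H := htop ▸ Subgroup.mem_top k
  exact ((hkH X).mp ⟨hX, hXn⟩).1 hk

/-- The stabiliser in `P` of a far point lies in every `P ⊓ Q` for `Q` a neighbour. -/
theorem inf_far_le {P Q X : Sylow 3 G} (hQ : Nb P Q) (hX : X ≠ P) (hXn : ¬ Nb P X) :
    (P : Subgroup G) ⊓ X ≤ Q := by
  haveI := hG.inf_normal hQ
  set D := ((P : Subgroup G) ⊓ Q).subgroupOf (P : Subgroup G) with hD
  set K := MulAction.stabilizer (P : Subgroup G) X with hK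
  by_contra hle
  have hKD : ¬ K ≤ D := by
    intro h
    refine hle fun y hy => ?_
    have h1 : (⟨y, hy.1⟩ : (P : Subgroup G)) ∈ K := by
      rw [hK, stabilizer_eq_inf, Subgroup.mem_subgroupOf]
      exact hy.2
    exact (Subgroup.mem_subgroupOf.mp (h h1)).2
  have hidx : D.index = 3 := by
    rw [hD, Subgroup.inf_subgroupOf_left, ← stabilizer_eq_inf, MulAction.index_stabilizer, hQ.2]
  have htop : D ⊔ K = ⊤ := by
    have hd : (D ⊔ K).index ∣ 3 :=
      (Subgroup.index_dvd_of_le le_sup_left).trans hidx.dvd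
    rcases (Nat.dvd_prime Nat.prime_three).mp hd with h | h
    · exact Subgroup.index_eq_one.mp h
    · exfalso
      refine hKD (le_sup_right.trans (le_of_eq (Subgroup.eq_of_le_of_card_ge le_sup_left ?_).symm))
      have e1 := Subgroup.card_mul_index D
      have e2 := Subgroup.card_mul_index (D ⊔ K)
      rw [hidx] at e1
      rw [h, ← e1] at e2
      exact (Nat.eq_of_mul_eq_mul_right (by norm_num) e2).le
  -- so `P ⊓ Q` is transitive on the far points of `P`
  obtain ⟨Y, hY, hYn, hYQ⟩ := hG.exists_far_not_far h9 hQ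
  obtain ⟨ho, hall⟩ := hG.far_orbit h9 hX hXn
  have hsub : MulAction.orbit (P : Subgroup G) X ⊆ MulAction.orbit (Q : Subgroup G) Y := by
    have htrans : ∀ T ∈ MulAction.orbit (P : Subgroup G) X, ∃ d : (Q : Subgroup G), d • X = T := by
      rintro _ ⟨p, rfl⟩
      obtain ⟨d, hd, k, hk, rfl⟩ := Subgroup.mem_sup_of_normal_left.mp (htop ▸ Subgroup.mem_top p)
      refine ⟨⟨(d : G), (Subgroup.mem_subgroupOf.mp hd).2⟩, ?_⟩
      show (d : G) • X = (d * k) • X
      rw [mul_smul, MulAction.mem_stabilizer_iff.mp hk]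
      rfl
    intro T hT
    obtain ⟨a, ha⟩ := htrans T hT
    obtain ⟨b, hb⟩ := htrans Y (hall Y hY hYn)
    refine ⟨a * b⁻¹, ?_⟩
    show (a * b⁻¹) • Y = T
    rw [← hb, smul_smul, inv_mul_cancel_right]
    exact ha
  have := Set.ncard_le_ncard hsub (Set.toFinite _)
  rw [ho, hYQ.2] at this
  omega

theorem two_lines (P : Sylow 3 G) : ∃ Q₁ Q₂, Nb P Q₁ ∧ Nb P Q₂ ∧
    (P : Subgroup G) ⊓ Q₁ ≠ (P : Subgroup G) ⊓ Q₂ := by
  obtain ⟨l₁, h1, l₂, h2, hne⟩ := Finset.one_lt_card.mp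
    (show 1 < (linesThrough P).card by rw [(hG.four_lines h9 P).2.1]; norm_num)
  obtain ⟨Q₁, hQ₁, rfl⟩ := hG.mem_linesThrough.mp h1
  obtain ⟨Q₂, hQ₂, rfl⟩ := hG.mem_linesThrough.mp h2
  exact ⟨Q₁, Q₂, hQ₁, hQ₂, fun h => hne (by rw [h])⟩

/-- All far points have the same stabiliser in `P`. -/
theorem inf_far_eq {P X Y : Sylow 3 G} (hX : X ≠ P) (hXn : ¬ Nb P X) (hY : Y ≠ P) (hYn : ¬ Nb P Y) :
    (P : Subgroup G) ⊓ Y = (P : Subgroup G) ⊓ X := by
  obtain ⟨Q₁, Q₂, hQ₁, hQ₂, hne⟩ := hG.two_lines h9 P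
  set E : Subgroup G := ((P : Subgroup G) ⊓ Q₁) ⊓ ((P : Subgroup G) ⊓ Q₂) with hE
  have key : ∀ Z : Sylow 3 G, Z ≠ P → ¬ Nb P Z → (P : Subgroup G) ⊓ Z = E := by
    intro Z hZ hZn
    have hle : (P : Subgroup G) ⊓ Z ≤ E := le_inf
      (le_inf inf_le_left (hG.inf_far_le h9 hQ₁ hZ hZn))
      (le_inf inf_le_left (hG.inf_far_le h9 hQ₂ hZ hZn))
    refine Subgroup.eq_of_le_of_card_ge hle ?_
    have h1 := hG.card_eq_orbit_mul P Z
    rw [(hG.far_orbit h9 hZ hZn).1] at h1
    have h2 := hG.card_nb_eq hQ₁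
    have h3 := hG.card_nb_eq hQ₂
    obtain ⟨m, hm⟩ := Subgroup.card_dvd_of_le (show E ≤ (P : Subgroup G) ⊓ Q₁ from inf_le_left)
    have hm1 : m ≠ 1 := by
      intro h
      rw [h, mul_one] at hm
      have he : E = (P : Subgroup G) ⊓ Q₁ := Subgroup.eq_of_le_of_card_ge inf_le_left hm.le
      refine hne (Subgroup.eq_of_le_of_card_ge (inf_eq_left.mp he) ?_)
      omega
    have hm2 : m ∣ 3 ^ (Nat.card (P : Subgroup G)) := by
      obtain ⟨n, hn⟩ := IsPGroup.iff_card.mp P.2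
      have h4 : m ∣ 3 ^ n := hn ▸ h2 ▸ Dvd.dvd.mul_left ⟨_, by rw [mul_comm]; exact hm⟩ 3
      exact h4.trans (pow_dvd_pow 3 (by
        rw [hn]
        exact (Nat.lt_pow_self (by norm_num)).le))
    obtain ⟨k, -, rfl⟩ := (Nat.dvd_prime_pow Nat.prime_three).mp hm2
    have hk : 3 ≤ 3 ^ k := by
      rcases k with _ | k
      · simp at hm1
      · rw [pow_succ]
        have : 0 < 3 ^ k := by positivity
        omega
    have hmul : Nat.card E * 3 ≤ Nat.card E * 3 ^ k := Nat.mul_le_mul_left _ hk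
    omega
  rw [key X hX hXn, key Y hY hYn]

/-- The Sylow subgroups have order 9, and far points have trivial stabiliser. -/
theorem card_eq_nine (P : Sylow 3 G) : Nat.card (P : Subgroup G) = 9 := by
  obtain ⟨X, hX, hXn⟩ := hG.exists_far h9 P
  set H : Subgroup G := (P : Subgroup G) ⊓ X with hH
  have h1 := hG.card_eq_orbit_mul P X
  rw [(hG.far_orbit h9 hX hXn).1, ← hH] at h1
  suffices hbot : H = ⊥ by rw [h1, hbot, Subgroup.card_bot]
  have hXfar : P ≠ X ∧ ¬ Nb X P := ⟨hX.symm, fun h => hXn (hG.nb_symm h)⟩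
  have hn : ∀ n : G, n • P = P → MulAut.conj n • H = H := by
    intro n hn
    obtain ⟨a, b⟩ := hG.smul_far h9 n hX hXn
    rw [hn] at a b
    rw [hH, Subgroup.smul_inf, ← Sylow.coe_subgroup_smul, ← Sylow.coe_subgroup_smul, hn]
    exact hG.inf_far_eq h9 hX hXn a b
  obtain ⟨g, hg⟩ := hG.exists_smul_eq P X
  have hgH : MulAut.conj g • H = H := by
    obtain ⟨a, b⟩ := hG.smul_far h9 g hX hXn
    rw [hg] at a b
    rw [hH, Subgroup.smul_inf, ← Sylow.coe_subgroup_smul, ← Sylow.coe_subgroup_smul, hg,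
      hG.inf_far_eq h9 hXfar.1 hXfar.2 a b, inf_comm]
  let M : Subgroup G :=
    { carrier := {g | MulAut.conj g • H = H}
      one_mem' := by simp
      mul_mem' := fun {a b} (ha : MulAut.conj a • H = H) (hb : MulAut.conj b • H = H) => by
        show MulAut.conj (a * b) • H = H
        rw [map_mul, mul_smul, hb, ha]
      inv_mem' := fun {a} (ha : MulAut.conj a • H = H) => by
        show MulAut.conj a⁻¹ • H = H
        conv_lhs => rw [← ha]
        rw [map_inv, inv_smul_smul] }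
  have htop : M = ⊤ := hG.eq_top_of_normalizer_lt P
    (fun n hn' => hn n (hG.smul_self_iff.mp hn')) (show g ∈ M from hgH) (hg.trans_ne hX)
  have hnormal : H.Normal := ⟨fun y hy g => by
    have hgM : MulAut.conj g • H = H := (htop ▸ Subgroup.mem_top g : g ∈ M)
    rw [← hgM]
    exact ⟨y, hy, rfl⟩⟩
  refine (hG.eq_bot_or_top hnormal).resolve_right fun h => ?_
  refine hG.normalizer_ne_top P (top_le_iff.mp ?_)
  rw [← h]
  exact inf_le_left.trans Subgroup.le_normalizer

end Config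

end CfsgLib.SylowNumber.TwentyTwo
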