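import Mathlib
import Cfsg.Agent.Lib.SylowNumber.TwentyTwo.Nine

/-!
Twenty-two Sylow `3`-subgroups of order 9: the final contradiction by parity.
-/

namespace CfsgLib.SylowNumber.TwentyTwo

open scoped Pointwise
open scoped Classical

set_option linter.style.haveILetI false
set_option linter.unusedSectionVars false

variable {G : Type*} [Group G] [Finite G] [Fact (Nat.Prime 3)]

/-- The four subgroups `P ⊓ Q` with `Q` a neighbour. -/
noncomputable def traces (P : Sylow 3 G) : Finset (Subgroup G) :=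
  (nbs P).image fun Q : Sylow 3 G => (P : Subgroup G) ⊓ Q

namespace Config

variable (hG : Config G)
include hG

/-- A `3'`-element centralizing `P` and stabilising its orbits is trivial. -/
theorem fix_all {P : Sylow 3 G} {c : G} {m : ℕ} (hm : ¬ 3 ∣ m) (hcm : c ^ m = 1)
    (hcP : ∀ y ∈ (P : Subgroup G), Commute c y) (hfix : c • P = P)
    (horb : ∀ Q : Sylow 3 G, Q ≠ P → c • Q ∈ MulAction.orbit (P : Subgroup G) Q) : c = 1 := by
  refine hG.faithful fun Q => ?_
  by_cases hQ : Q = P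
  · rw [hQ]; exact hfix
  obtain ⟨p, hp⟩ := horb Q hQ
  have hp' : (p : G) • Q = c • Q := hp
  have hpow : ∀ j : ℕ, c ^ j • Q = (p : G) ^ j • Q := by
    intro j
    induction j with
    | zero => simp
    | succ j ih =>
      rw [pow_succ, mul_smul, ← hp', ← mul_smul, ((hcP p p.2).pow_left j).eq, mul_smul, ih,
        ← mul_smul, ← pow_succ']
  have hm' : (p : G) ^ m ∈ MulAction.stabilizer G Q := by
    rw [MulAction.mem_stabilizer_iff, ← hpow, hcm, one_smul]
  obtain ⟨n, hn⟩ := P.2 p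
  have hn' : (p : G) ^ 3 ^ n = 1 := congrArg Subtype.val hn
  have hcop : Nat.Coprime m (orderOf (p : G)) := by
    obtain ⟨i, -, hi⟩ := (Nat.dvd_prime_pow Nat.prime_three).mp (orderOf_dvd_of_pow_eq_one hn')
    rw [hi]
    exact Nat.Coprime.pow_right _ ((Nat.prime_three.coprime_iff_not_dvd.mpr hm).symm)
  obtain ⟨t, ht⟩ := exists_pow_eq_self_of_coprime hcop
  have := pow_mem hm' t
  rw [ht, MulAction.mem_stabilizer_iff] at this
  rw [← hp', this]

variable (h9 : ∀ P : Sylow 3 G, 9 ≤ Nat.card (P : Subgroup G))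
include h9

theorem card_trace {P Q : Sylow 3 G} (hQ : Nb P Q) :
    Nat.card ((P : Subgroup G) ⊓ Q : Subgroup G) = 3 := by
  have := hG.card_nb_eq hQ
  rw [hG.card_eq_nine h9 P] at this
  omega

theorem mem_traces {P : Sylow 3 G} {D : Subgroup G} :
    D ∈ traces P ↔ ∃ Q, Nb P Q ∧ (P : Subgroup G) ⊓ Q = D := by
  simp [traces, mem_nbs]

theorem trace_le {P : Sylow 3 G} {D : Subgroup G} (hD : D ∈ traces P) :
    D ≤ (P : Subgroup G) ∧ Nat.card D = 3 := by
  obtain ⟨Q, hQ, rfl⟩ := (hG.mem_traces h9).mp hD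
  exact ⟨inf_le_left, hG.card_trace h9 hQ⟩

theorem card_traces (P : Sylow 3 G) : (traces P).card = 4 := by
  rw [← (hG.four_lines h9 P).2.1]
  have : linesThrough P = (traces P).image line := by
    rw [traces, Finset.image_image]
    rfl
  rw [this, Finset.card_image_of_injOn]
  intro D hD D' hD' he
  obtain ⟨Q, hQ, rfl⟩ := (hG.mem_traces h9).mp hD
  obtain ⟨Q', hQ', rfl⟩ := (hG.mem_traces h9).mp hD'
  have hmem : Q' ∈ line ((P : Subgroup G) ⊓ Q) := he ▸ hG.self_mem_line.2
  exact ((hG.line_pair hQ hG.self_mem_line.1 hmem hQ'.1).2).symm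

theorem trace_eq_of_mem {P : Sylow 3 G} {D D' : Subgroup G} (hD : D ∈ traces P) (hD' : D' ∈ traces P)
    {a : G} (ha : a ∈ D) (ha' : a ∈ D') (ha1 : a ≠ 1) : D = D' := by
  obtain ⟨-, h1⟩ := hG.trace_le h9 hD
  obtain ⟨-, h2⟩ := hG.trace_le h9 hD'
  have hz : Nat.card (Subgroup.zpowers a) = 3 := by
    rcases (Nat.dvd_prime Nat.prime_three).mp
      ((Subgroup.card_dvd_of_le (Subgroup.zpowers_le.mpr ha)).trans h1.dvd) with h | h
    · exact absurd (orderOf_eq_one_iff.mp (by rwa [Nat.card_zpowers] at h)) ha1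
    · exact h
  rw [← Subgroup.eq_of_le_of_card_ge (Subgroup.zpowers_le.mpr ha) (h1.trans hz.symm).le,
    ← Subgroup.eq_of_le_of_card_ge (Subgroup.zpowers_le.mpr ha') (h2.trans hz.symm).le]

theorem exists_trace_mem {P : Sylow 3 G} {a : G} (ha : a ∈ (P : Subgroup G)) :
    ∃ D ∈ traces P, a ∈ D := by
  haveI : Fintype G := Fintype.ofFinite _
  by_cases ha1 : a = 1
  · obtain ⟨D, hD⟩ := Finset.card_pos.mp (show 0 < (traces P).card by rw [hG.card_traces h9]; norm_num)
    exact ⟨D, hD, ha1 ▸ D.one_mem⟩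
  let B : Subgroup G → Finset G := fun D => (Finset.univ.filter (fun g => g ∈ D)).erase 1
  have hB : ∀ D ∈ traces P, (B D).card = 2 := by
    intro D hD
    rw [Finset.card_erase_of_mem (by simp), ← Fintype.card_subtype, ← Nat.card_eq_fintype_card]
    have : Nat.card {g // g ∈ D} = 3 := (hG.trace_le h9 hD).2
    omega
  have hdisj : (traces P : Set (Subgroup G)).PairwiseDisjoint B := by
    intro D hD D' hD' hne
    rw [Function.onFun, Finset.disjoint_left]
    intro g hg hg'
    simp only [B, Finset.mem_erase, Finset.mem_filter, Finset.mem_univ, true_and] at hg hg'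
    exact hne (hG.trace_eq_of_mem h9 hD hD' hg.2 hg'.2 hg.1)
  have he : (traces P).biUnion B =
      (Finset.univ.filter (fun g => g ∈ (P : Subgroup G))).erase 1 := by
    refine Finset.eq_of_subset_of_card_le ?_ ?_
    · intro g hg
      obtain ⟨D, hD, hgD⟩ := Finset.mem_biUnion.mp hg
      simp only [B, Finset.mem_erase, Finset.mem_filter, Finset.mem_univ, true_and] at hgD ⊢
      exact ⟨hgD.1, (hG.trace_le h9 hD).1 hgD.2⟩
    · rw [Finset.card_biUnion hdisj, Finset.sum_congr rfl hB, Finset.sum_const, smul_eq_mul, hG.card_traces h9,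
        Finset.card_erase_of_mem (by simp), ← Fintype.card_subtype, ← Nat.card_eq_fintype_card]
      have : Nat.card {g // g ∈ (P : Subgroup G)} = 9 := hG.card_eq_nine h9 P
      omega
  have hmem : a ∈ (traces P).biUnion B := by rw [he]; simp [ha, ha1]
  obtain ⟨D, hD, haD⟩ := Finset.mem_biUnion.mp hmem
  simp only [B, Finset.mem_erase, Finset.mem_filter, Finset.mem_univ, true_and] at haD
  exact ⟨D, hD, haD.2⟩

theorem pow_three {P : Sylow 3 G} {a : G} (ha : a ∈ (P : Subgroup G)) : a ^ 3 = 1 := by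
  obtain ⟨D, hD, haD⟩ := hG.exists_trace_mem h9 ha
  refine orderOf_dvd_iff_pow_eq_one.mp ((hG.trace_le h9 hD).2 ▸ ?_)
  exact Subgroup.orderOf_dvd_natCard D haD

theorem commute_of_mem {P : Sylow 3 G} {a b : G} (ha : a ∈ (P : Subgroup G))
    (hb : b ∈ (P : Subgroup G)) : Commute a b := by
  have hc : IsMulCommutative (P : Subgroup G) :=
    IsPGroup.isMulCommutative_of_card_eq_prime_sq (p := 3) (hG.card_eq_nine h9 P)
  exact congrArg Subtype.val
    (hc.is_comm.comm ⟨a, ha⟩ ⟨b, hb⟩)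

/-- An element of a trace is a power of a nontrivial one. -/
theorem trace_cases {P : Sylow 3 G} {D : Subgroup G} (hD : D ∈ traces P) {a b : G} (ha : a ∈ D)
    (ha1 : a ≠ 1) (hb : b ∈ D) : b = 1 ∨ b = a ∨ b = a⁻¹ := by
  obtain ⟨-, h3⟩ := hG.trace_le h9 hD
  have hcube : a ^ 3 = 1 := hG.pow_three h9 ((hG.trace_le h9 hD).1 ha)
  have ho : orderOf a = 3 := orderOf_eq_prime hcube ha1
  have hz : Subgroup.zpowers a = D := Subgroup.eq_of_le_of_card_ge (Subgroup.zpowers_le.mpr ha)
    (by rw [Nat.card_zpowers, ho, h3])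
  obtain ⟨k, rfl⟩ := Subgroup.mem_zpowers_iff.mp (hz.symm ▸ hb)
  rw [← zpow_mod_orderOf, ho]
  have : k % ((3 : ℕ) : ℤ) = 0 ∨ k % ((3 : ℕ) : ℤ) = 1 ∨ k % ((3 : ℕ) : ℤ) = 2 := by omega
  rcases this with h | h | h <;> rw [h]
  · exact Or.inl (zpow_zero a)
  · exact Or.inr (Or.inl (zpow_one a))
  · refine Or.inr (Or.inr (eq_inv_of_mul_eq_one_left ?_))
    rw [← hcube]
    group

theorem ne_inv {P : Sylow 3 G} {a : G} (ha : a ∈ (P : Subgroup G)) (ha1 : a ≠ 1) : a ≠ a⁻¹ := by
  intro h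
  have h2 : a * a = 1 := by nth_rw 2 [h]; exact mul_inv_cancel a
  have h3 := hG.pow_three h9 ha
  rw [pow_succ, pow_two, h2, one_mul] at h3
  exact ha1 h3

theorem smul_trace {P : Sylow 3 G} {n : G} (hn : n • P = P) {D : Subgroup G} (hD : D ∈ traces P) :
    MulAut.conj n • D ∈ traces P := by
  obtain ⟨Q, hQ, rfl⟩ := (hG.mem_traces h9).mp hD
  refine (hG.mem_traces h9).mpr ⟨n • Q, ?_, ?_⟩
  · have hne : n • Q ≠ P := fun h => hQ.1 (smul_left_cancel n (h.trans hn.symm))
    refine hG.nb_of_card hne ?_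
    rw [← hn, Sylow.coe_subgroup_smul, Sylow.coe_subgroup_smul, ← Subgroup.smul_inf,
      Nat.card_congr (Subgroup.equivSMul (MulAut.conj n) ((P : Subgroup G) ⊓ Q)).symm.toEquiv,
      Nat.card_congr (Subgroup.equivSMul (MulAut.conj n) (P : Subgroup G)).symm.toEquiv]
    exact (hG.card_nb_eq hQ).le
  · rw [Subgroup.smul_inf, ← Sylow.coe_subgroup_smul, ← Sylow.coe_subgroup_smul, hn]

/-- An element fixing all traces centralizes or inverts `P`. -/
theorem sign_cases {P : Sylow 3 G} {n : G}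
    (hfix : ∀ D ∈ traces P, MulAut.conj n • D = D) :
    (∀ a ∈ (P : Subgroup G), n * a * n⁻¹ = a) ∨ (∀ a ∈ (P : Subgroup G), n * a * n⁻¹ = a⁻¹) := by
  have hpm : ∀ a ∈ (P : Subgroup G), n * a * n⁻¹ = a ∨ n * a * n⁻¹ = a⁻¹ := by
    intro a ha
    by_cases ha1 : a = 1
    · subst ha1; left; group
    obtain ⟨D, hD, haD⟩ := hG.exists_trace_mem h9 ha
    have hmem : n * a * n⁻¹ ∈ D := by
      rw [← hfix D hD]
      exact ⟨a, haD, rfl⟩
    rcases hG.trace_cases h9 hD haD ha1 hmem with h | h | h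
    · exfalso
      refine ha1 ?_
      have : a = n⁻¹ * (n * a * n⁻¹) * n := by group
      rw [this, h, mul_one, inv_mul_cancel]
    · exact Or.inl h
    · exact Or.inr h
  by_contra hcon
  push Not at hcon
  obtain ⟨⟨x, hx, hxf⟩, ⟨y, hy, hyi⟩⟩ := hcon
  have hxi := (hpm x hx).resolve_left hxf
  have hyf := (hpm y hy).resolve_right hyi
  have hxy : n * (x * y) * n⁻¹ = x⁻¹ * y := by
    rw [show n * (x * y) * n⁻¹ = (n * x * n⁻¹) * (n * y * n⁻¹) by group, hxi, hyf]
  rcases hpm (x * y) (mul_mem hx hy) with h | h <;> rw [hxy] at h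
  · exact hxf (hxi.trans (mul_right_cancel h))
  · refine hyi (hyf.trans ?_)
    rw [mul_inv_rev, (hG.commute_of_mem h9 (inv_mem hy) (inv_mem hx)).eq] at h
    exact mul_left_cancel h

/-- `P` is self-centralizing. -/
theorem centralizer_eq {P : Sylow 3 G} {c : G} (hc : ∀ y ∈ (P : Subgroup G), Commute c y) :
    c ∈ (P : Subgroup G) := by
  have hfixP : ∀ c : G, (∀ y ∈ (P : Subgroup G), Commute c y) → c • P = P := fun c hc =>
    hG.smul_self_iff.mp (Subgroup.mem_normalizer_iff.mpr fun y => by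
      constructor
      · intro hy; rwa [(hc y hy).eq, mul_inv_cancel_right]
      · intro hy
        have h1 := (hc _ hy).eq
        have : y = c * y * c⁻¹ := by
          calc y = c⁻¹ * (c * y * c⁻¹ * c) := by group
            _ = c⁻¹ * (c * (c * y * c⁻¹)) := by rw [h1]
            _ = c * y * c⁻¹ := by group
        rwa [this])
  set m := (P : Subgroup G).index with hm
  have hm3 : ¬ 3 ∣ m := P.not_dvd_index
  have hcard : Nat.card G = 9 * m := by
    rw [hm, ← hG.card_eq_nine h9 P, Subgroup.card_mul_index]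
  have hc9 : c ^ 9 = 1 := by
    have hcP9 : ∀ y ∈ (P : Subgroup G), Commute (c ^ 9) y := fun y hy => (hc y hy).pow_left 9
    refine hG.fix_all hm3 (by rw [← pow_mul, ← hcard, pow_card_eq_one']) hcP9 (hfixP _ hcP9)
      fun Q hQ => ?_
    have hne : c ^ 9 • Q ≠ P := fun h => hQ (smul_left_cancel (c ^ 9) (h.trans (hfixP _ hcP9).symm))
    by_cases hnb : Nb P Q
    · set D := (P : Subgroup G) ⊓ Q with hD
      have hmem : c ^ 9 • Q ∈ line D := by
        rw [mem_line, Sylow.coe_subgroup_smul]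
        intro y hy
        refine ⟨y, hy.2, ?_⟩
        show c ^ 9 * y * (c ^ 9)⁻¹ = y
        rw [(hcP9 y hy.1).eq, mul_inv_cancel_right]
      haveI : Fintype (Sylow 3 G) := Fintype.ofFinite _
      have hsub : (MulAction.orbit (P : Subgroup G) Q).toFinset ⊆ (line D).erase P := by
        intro T hT
        rw [Set.mem_toFinset] at hT
        rw [Finset.mem_erase, mem_line, hD, ← hG.inf_eq_of_mem_orbit hnb hT]
        exact ⟨hG.ne_of_mem_orbit hnb.1 hT, inf_le_right⟩
      have heq := Finset.eq_of_subset_of_card_le hsub (by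
        rw [Finset.card_erase_of_mem hG.self_mem_line.1, ← Set.ncard_eq_toFinset_card', hnb.2,
          (hG.four_lines h9 P).1 _ (hG.mem_linesThrough.mpr ⟨Q, hnb, rfl⟩)])
      rw [← Set.mem_toFinset, heq, Finset.mem_erase]
      exact ⟨hne, hmem⟩
    · obtain ⟨a, b⟩ := hG.smul_far h9 (c ^ 9) hQ hnb
      rw [hfixP _ hcP9] at a b
      exact (hG.far_orbit h9 hQ hnb).2 _ a b
  exact mem_of_isPGroup_smul_eq (IsPGroup.of_card_dvd_pow (n := 2)
    (Nat.card_zpowers c ▸ orderOf_dvd_of_pow_eq_one hc9)) (Subgroup.mem_zpowers c) (hfixP c hc)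

theorem nine_false : False := by
  haveI : Fintype (Sylow 3 G) := Fintype.ofFinite _
  haveI : Fact (Nat.Prime 2) := ⟨Nat.prime_two⟩
  obtain ⟨P⟩ : Nonempty (Sylow 3 G) := inferInstance
  have hP := hG.card_eq_nine h9 P
  set N := Subgroup.normalizer ((P : Subgroup G) : Set G) with hN
  have hNfix : ∀ n : N, (n : G) • P = P := fun n => hG.smul_self_iff.mp n.2
  -- the action on the four traces
  let ψ : N →* Equiv.Perm {D // D ∈ traces P} :=
    { toFun := fun n =>
        { toFun := fun D => ⟨MulAut.conj (n : G) • D.1, hG.smul_trace h9 (hNfix n) D.2⟩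
          invFun := fun D => ⟨MulAut.conj ((n⁻¹ : N) : G) • D.1, hG.smul_trace h9 (hNfix n⁻¹) D.2⟩
          left_inv := fun D => Subtype.ext (by
            show MulAut.conj ((n⁻¹ : N) : G) • MulAut.conj (n : G) • D.1 = D.1
            rw [Subgroup.coe_inv, map_inv, inv_smul_smul])
          right_inv := fun D => Subtype.ext (by
            show MulAut.conj (n : G) • MulAut.conj ((n⁻¹ : N) : G) • D.1 = D.1
            rw [Subgroup.coe_inv, map_inv, smul_inv_smul]) }
      map_one' := Equiv.ext fun D => Subtype.ext (by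
        show MulAut.conj ((1 : N) : G) • D.1 = D.1
        rw [Subgroup.coe_one, map_one, one_smul])
      map_mul' := fun a b => Equiv.ext fun D => Subtype.ext (by
        show MulAut.conj ((a * b : N) : G) • D.1 = MulAut.conj (a : G) • MulAut.conj (b : G) • D.1
        rw [Subgroup.coe_mul, map_mul, mul_smul]) }
  have hψ : ∀ (n : N) D, ((ψ n D).1 : Subgroup G) = MulAut.conj (n : G) • D.1 := fun n D => rfl
  have hker : ∀ n : N, n ∈ ψ.ker → ∀ D ∈ traces P, MulAut.conj (n : G) • D = D := by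
    intro n hn D hD
    rw [← hψ n ⟨D, hD⟩, MonoidHom.mem_ker.mp hn]
    rfl
  have hker' : ∀ n : N, (∀ D ∈ traces P, MulAut.conj (n : G) • D = D) → n ∈ ψ.ker := fun n hn =>
    MonoidHom.mem_ker.mpr (Equiv.ext fun D => Subtype.ext (hn D.1 D.2))
  have hPker : (P : Subgroup G).subgroupOf N ≤ ψ.ker := by
    intro n hn
    refine hker' n fun D hD => ?_
    ext y
    have hcomm : ∀ d ∈ D, (n : G) * d * (n : G)⁻¹ = d := fun d hd => by
      rw [(hG.commute_of_mem h9 (Subgroup.mem_subgroupOf.mp hn) ((hG.trace_le h9 hD).1 hd)).eq,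
        mul_inv_cancel_right]
    constructor
    · rintro ⟨d, hd, rfl⟩
      show (n : G) * d * (n : G)⁻¹ ∈ D
      rw [hcomm d hd]; exact hd
    · intro hy
      exact ⟨y, hy, hcomm y hy⟩
  have hPN : Nat.card ((P : Subgroup G).subgroupOf N) = 9 := by
    rw [Nat.card_congr (Subgroup.subgroupOfEquivOfLe (Subgroup.le_normalizer)).toEquiv, hP]
  -- the kernel has order 9 or 18
  obtain ⟨r, hr⟩ := Subgroup.card_dvd_of_le hPker
  rw [hPN] at hr
  have hr2 : r = 1 ∨ r = 2 := by
    have hidx : ((P : Subgroup G).subgroupOf N).relIndex ψ.ker = r := by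
      have e := Subgroup.card_mul_index (((P : Subgroup G).subgroupOf N).subgroupOf ψ.ker)
      rw [Nat.card_congr (Subgroup.subgroupOfEquivOfLe hPker).toEquiv, hPN, hr] at e
      exact Nat.eq_of_mul_eq_mul_left (by norm_num) e
    have hle : r ≤ 2 := by
      rw [← hidx]
      show Subgroup.index _ ≤ 2
      rw [Subgroup.index_eq_card]
      set L := ((P : Subgroup G).subgroupOf N).subgroupOf ψ.ker
      let f : ψ.ker ⧸ L → Bool := fun q =>
        decide (∀ a ∈ (P : Subgroup G), ((q.out : N) : G) * a * ((q.out : N) : G)⁻¹ = a)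
      have hf : Function.Injective f := by
        intro q q' h
        rw [← q.out_eq', ← q'.out_eq', QuotientGroup.eq]
        refine Subgroup.mem_subgroupOf.mpr (Subgroup.mem_subgroupOf.mpr (hG.centralizer_eq h9 ?_))
        intro y hy
        have hiff := (decide_eq_decide.mp h)
        set u := ((q.out : N) : G)
        set v := ((q'.out : N) : G)
        show Commute (u⁻¹ * v) y
        have hval : u * y * u⁻¹ = v * y * v⁻¹ := by
          rcases hG.sign_cases h9 (hker _ q.out.2) with hu | hu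
          · rw [hu y hy, hiff.mp hu y hy]
          · rcases hG.sign_cases h9 (hker _ q'.out.2) with hv | hv
            · rw [hv y hy, hiff.mpr hv y hy]
            · rw [hu y hy, hv y hy]
        show u⁻¹ * v * y = y * (u⁻¹ * v)
        calc u⁻¹ * v * y = u⁻¹ * (v * y * v⁻¹) * v := by group
          _ = u⁻¹ * (u * y * u⁻¹) * v := by rw [hval]
          _ = y * (u⁻¹ * v) := by group
      have := Nat.card_le_card_of_injective f hf
      rwa [Nat.card_eq_fintype_card (α := Bool), Fintype.card_bool] at this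
    rcases Nat.lt_or_ge r 1 with h | h
    · exfalso
      have : 0 < Nat.card ψ.ker := Nat.card_pos
      rw [hr, show r = 0 by omega] at this
      omega
    · omega
  have hperm : Nat.card (Equiv.Perm {D // D ∈ traces P}) = 24 := by
    rw [Nat.card_perm, Nat.card_eq_fintype_card, Fintype.card_coe, hG.card_traces h9]; rfl
  set s := Nat.card ψ.range with hs
  have hs24 : s ∣ 24 := hperm ▸ Subgroup.card_subgroup_dvd_card _
  have hNcard : Nat.card N = 9 * r * s := by
    rw [← Subgroup.card_mul_index ψ.ker, Subgroup.index_ker, hr]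
  have hGcard : Nat.card G = 9 * r * s * 22 := by
    rw [← hNcard, ← hG.normalizer_index P]; exact (Subgroup.card_mul_index N).symm
  -- the prime 11
  have hs8 : r = 2 ∧ s = 8 := by
    have h11 : ¬ 11 ∣ Nat.card N := by
      rw [hNcard]
      intro h
      have h1 : 9 * r * s ∣ 9 * 2 * 24 :=
        mul_dvd_mul (mul_dvd_mul_left 9 (by rcases hr2 with rfl | rfl <;> norm_num)) hs24
      have := h.trans h1
      norm_num at this
    obtain ⟨e, n, he, hn, hGe, he2⟩ := hG.eleven P h11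
    rw [← hN, hNcard] at he2
    have hs' : s ≤ 24 := Nat.le_of_dvd (by norm_num) hs24
    rw [hGcard] at hGe
    rcases he with rfl | rfl | rfl
    · rcases hr2 with rfl | rfl <;> interval_cases s <;> omega
    · rcases hr2 with rfl | rfl <;> interval_cases s <;> omega
    · rcases hr2 with rfl | rfl <;> interval_cases s <;> omega
  obtain ⟨rfl, hs8⟩ := hs8
  -- the range contains a transposition
  obtain ⟨a, b, hab, hswap⟩ : ∃ a b, a ≠ b ∧ Equiv.swap a b ∈ ψ.range := by
    obtain ⟨R, hR⟩ := (IsPGroup.of_card (p := 2) (n := 3) (by rw [← hs, hs8]; rfl) :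
      IsPGroup 2 ψ.range).exists_le_sylow
    have hRcard : Nat.card (R : Subgroup (Equiv.Perm {D // D ∈ traces P})) = 8 := by
      rw [R.card_eq_multiplicity, hperm,
        show (24 : ℕ).factorization 2 = 3 by
          rw [show (24 : ℕ) = 2 ^ 3 * 3 by norm_num, Nat.factorization_mul (by norm_num) (by norm_num),
            Finsupp.add_apply, Nat.Prime.factorization_pow Nat.prime_two, Finsupp.single_eq_same,
            Nat.factorization_eq_zero_of_not_dvd (by norm_num : ¬ 2 ∣ 3)]]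
      rfl
    have heq : ψ.range = R := Subgroup.eq_of_le_of_card_ge hR (by rw [hRcard, ← hs, hs8])
    obtain ⟨a, b, hab⟩ := (Fintype.exists_pair_of_one_lt_card (α := {D // D ∈ traces P})
      (by rw [Fintype.card_coe, hG.card_traces h9]; norm_num))
    obtain ⟨R₀, hR₀⟩ := (IsPGroup.of_card (p := 2) (n := 1)
      (by rw [Nat.card_zpowers, orderOf_eq_prime (p := 2) (by rw [pow_two, Equiv.swap_mul_self])
        (fun h => hab (Equiv.swap_eq_one_iff.mp h)), pow_one]) :
      IsPGroup 2 (Subgroup.zpowers (Equiv.swap a b))).exists_le_sylow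
    obtain ⟨g, rfl⟩ := MulAction.exists_smul_eq (Equiv.Perm {D // D ∈ traces P}) R₀ R
    refine ⟨g a, g b, fun h => hab (g.injective h), ?_⟩
    rw [heq, Sylow.coe_subgroup_smul, Equiv.swap_apply_apply]
    exact ⟨_, hR₀ (Subgroup.mem_zpowers _), rfl⟩
  obtain ⟨g', hg'⟩ := hswap
  set g : N := g' ^ 9 with hgdef
  have hψg : ψ g = Equiv.swap a b := by
    rw [hgdef, map_pow, hg', show (9 : ℕ) = 2 * 4 + 1 by norm_num, pow_succ, pow_mul, pow_two,
      Equiv.swap_mul_self, one_pow, one_mul]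
  have hg16 : g ^ 16 = 1 := by
    rw [hgdef, ← pow_mul, show 9 * 16 = Nat.card N by rw [hNcard, hs8], pow_card_eq_one']
  -- the two fixed traces
  obtain ⟨A, B, hA, hB, hAB⟩ : ∃ A B : {D // D ∈ traces P},
      (A ≠ a ∧ A ≠ b) ∧ (B ≠ a ∧ B ≠ b) ∧ A ≠ B := by
    have h2 : ((Finset.univ.erase a).erase b).card = 2 := by
      rw [Finset.card_erase_of_mem (Finset.mem_erase.mpr ⟨hab.symm, Finset.mem_univ _⟩),
        Finset.card_erase_of_mem (Finset.mem_univ _), Finset.card_univ, Fintype.card_coe,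
        hG.card_traces h9]
    obtain ⟨A, B, hAB, he⟩ := Finset.card_eq_two.mp h2
    have hA : A ∈ (Finset.univ.erase a).erase b := by rw [he]; simp
    have hB : B ∈ (Finset.univ.erase a).erase b := by rw [he]; simp
    simp only [Finset.mem_erase] at hA hB
    exact ⟨A, B, ⟨hA.2.1, hA.1⟩, ⟨hB.2.1, hB.1⟩, hAB⟩
  have hfixtr : ∀ D : {D // D ∈ traces P}, D ≠ a → D ≠ b → MulAut.conj (g : G) • D.1 = D.1 := by
    intro D h1 h2
    rw [← hψ g D, hψg, Equiv.swap_apply_of_ne_of_ne h1 h2]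
  have hpm : ∀ D : {D // D ∈ traces P}, D ≠ a → D ≠ b → ∀ d ∈ D.1, d ≠ 1 →
      (g : G) * d * (g : G)⁻¹ = d ∨ (g : G) * d * (g : G)⁻¹ = d⁻¹ := by
    intro D h1 h2 d hd hd1
    have hmem : (g : G) * d * (g : G)⁻¹ ∈ D.1 := by
      rw [← hfixtr D h1 h2]
      exact ⟨d, hd, rfl⟩
    refine (hG.trace_cases h9 D.2 hd hd1 hmem).resolve_left fun h => hd1 ?_
    have : d = (g : G)⁻¹ * ((g : G) * d * (g : G)⁻¹) * (g : G) := by group
    rw [this, h, mul_one, inv_mul_cancel]
  have hnt : ∀ D : {D // D ∈ traces P}, ∃ d ∈ D.1, d ≠ 1 := fun D =>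
    D.1.bot_or_exists_ne_one.resolve_left fun h => by
      have := (hG.trace_le h9 D.2).2
      rw [h, Subgroup.card_bot] at this
      omega
  -- `g` is an involution
  have hgg : (g : G) * g = 1 := by
    have hmem : g * g ∈ ψ.ker := by rw [MonoidHom.mem_ker, map_mul, hψg, Equiv.swap_mul_self]
    obtain ⟨d, hd, hd1⟩ := hnt A
    have hdP := (hG.trace_le h9 A.2).1 hd
    have hsq : (g : G) * g * d * ((g : G) * g)⁻¹ = d := by
      rw [show (g : G) * g * d * ((g : G) * g)⁻¹ = (g : G) * ((g : G) * d * (g : G)⁻¹) * (g : G)⁻¹ by group]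
      rcases hpm A hA.1 hA.2 d hd hd1 with h | h
      · rw [h, h]
      · rw [h, ← conj_inv, h, inv_inv]
    rcases hG.sign_cases h9 (hker _ hmem) with h | h
    · have hP' : (g : G) * g ∈ (P : Subgroup G) :=
        hG.centralizer_eq h9 fun y hy => mul_inv_eq_iff_eq_mul.mp (h y hy)
      have h3 := hG.pow_three h9 hP'
      have h16 : ((g : G) * g) ^ 8 = 1 := by
        rw [← pow_two, ← pow_mul]
        exact congrArg Subtype.val hg16
      rw [show (8 : ℕ) = 3 * 2 + 1 + 1 by norm_num, pow_succ, pow_succ, pow_mul, h3, one_pow,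
        one_mul] at h16
      rw [pow_succ, pow_two, h16, one_mul] at h3
      exact h3
    · exact absurd (hsq.symm.trans (h d hdP)) (hG.ne_inv h9 hdP hd1)
  have hg1 : (g : G) ≠ 1 := by
    intro h
    have : g = 1 := Subtype.ext h
    rw [this, map_one] at hψg
    exact hab (Equiv.swap_eq_one_iff.mp hψg.symm)
  -- every element of `P` is a product from two distinct traces
  have hprod : ∀ (D E : {D // D ∈ traces P}), D ≠ E → ∀ z ∈ (P : Subgroup G),
      ∃ d ∈ D.1, ∃ e ∈ E.1, z = d * e := by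
    intro D E hne z hz
    let f : D.1 × E.1 → (P : Subgroup G) := fun v => ⟨(v.1 : G) * v.2,
      mul_mem ((hG.trace_le h9 D.2).1 v.1.2) ((hG.trace_le h9 E.2).1 v.2.2)⟩
    have hf : Function.Injective f := by
      rintro ⟨d, e⟩ ⟨d', e'⟩ h
      have h' : (d : G) * e = d' * e' := congrArg Subtype.val h
      have hde : (d' : G)⁻¹ * d = e' * (e : G)⁻¹ := by
        calc (d' : G)⁻¹ * d = (d' : G)⁻¹ * ((d : G) * e) * (e : G)⁻¹ := by group
          _ = e' * (e : G)⁻¹ := by rw [h']; group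
      by_cases h1 : (d' : G)⁻¹ * d = 1
      · rw [h1] at hde
        exact Prod.ext (Subtype.ext (inv_mul_eq_one.mp h1).symm)
          (Subtype.ext (mul_inv_eq_one.mp hde.symm).symm)
      · exact absurd (Subtype.ext (hG.trace_eq_of_mem h9 D.2 E.2
          (D.1.mul_mem (D.1.inv_mem d'.2) d.2) (hde ▸ E.1.mul_mem e'.2 (E.1.inv_mem e.2)) h1)) hne
    haveI : Fintype G := Fintype.ofFinite _
    haveI : Fintype D.1 := Fintype.ofFinite _
    haveI : Fintype E.1 := Fintype.ofFinite _
    haveI : Fintype (P : Subgroup G) := Fintype.ofFinite _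
    obtain ⟨⟨d, e⟩, hde⟩ := ((Fintype.bijective_iff_injective_and_card f).mpr ⟨hf, by
      rw [← Nat.card_eq_fintype_card, ← Nat.card_eq_fintype_card, Nat.card_prod,
        (hG.trace_le h9 D.2).2, (hG.trace_le h9 E.2).2, hP]⟩).2 ⟨z, hz⟩
    exact ⟨d, d.2, e, e.2, (congrArg Subtype.val hde).symm⟩
  -- one fixed trace is centralized and the other inverted
  obtain ⟨X, Y, hXY, hX, hY, hXc, hYi⟩ : ∃ X Y : {D // D ∈ traces P}, X ≠ Y ∧ (X ≠ a ∧ X ≠ b) ∧
      (Y ≠ a ∧ Y ≠ b) ∧ (∀ d ∈ X.1, (g : G) * d * (g : G)⁻¹ = d) ∧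
      (∀ d ∈ Y.1, (g : G) * d * (g : G)⁻¹ = d⁻¹) := by
    have hall : ∀ D : {D // D ∈ traces P}, D ≠ a → D ≠ b →
        (∀ d ∈ D.1, (g : G) * d * (g : G)⁻¹ = d) ∨ (∀ d ∈ D.1, (g : G) * d * (g : G)⁻¹ = d⁻¹) := by
      intro D h1 h2
      obtain ⟨d₀, hd₀, hd₀1⟩ := hnt D
      rcases hpm D h1 h2 d₀ hd₀ hd₀1 with h | h
      · left
        intro d hd
        rcases hG.trace_cases h9 D.2 hd₀ hd₀1 hd with rfl | rfl | rfl
        · group
        · exact h
        · rw [← conj_inv, h]
      · right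
        intro d hd
        rcases hG.trace_cases h9 D.2 hd₀ hd₀1 hd with rfl | rfl | rfl
        · group
        · exact h
        · rw [← conj_inv, h]
    have hcontra : ∀ h : ∀ z ∈ (P : Subgroup G), MulAut.conj (g : G) • Subgroup.zpowers z = Subgroup.zpowers z,
        False := by
      intro h
      have hmem : g ∈ ψ.ker := hker' g fun D hD => by
        obtain ⟨d, hd, hd1⟩ := hnt ⟨D, hD⟩
        have hz : Subgroup.zpowers d = D := by
          refine Subgroup.eq_of_le_of_card_ge (Subgroup.zpowers_le.mpr hd) ?_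
          rw [(hG.trace_le h9 hD).2, Nat.card_zpowers]
          exact (orderOf_eq_prime (hG.pow_three h9 ((hG.trace_le h9 hD).1 hd)) hd1).ge
        rw [← hz]
        exact h d ((hG.trace_le h9 hD).1 hd)
      rw [MonoidHom.mem_ker, hψg] at hmem
      exact hab (Equiv.swap_eq_one_iff.mp hmem)
    have hboth : ∀ (ε : G → G), (∀ d e : G, d ∈ (P : Subgroup G) → e ∈ (P : Subgroup G) →
          ε (d * e) = ε d * ε e) → (∀ d, Subgroup.zpowers (ε d) = Subgroup.zpowers d) →
        (∀ d ∈ A.1, (g : G) * d * (g : G)⁻¹ = ε d) →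
        (∀ d ∈ B.1, (g : G) * d * (g : G)⁻¹ = ε d) → False := by
      intro ε hmul hz hAε hBε
      refine hcontra fun z hz' => ?_
      obtain ⟨d, hd, e, he, rfl⟩ := hprod A B hAB z hz'
      rw [show MulAut.conj (g : G) • Subgroup.zpowers (d * e) =
        (Subgroup.zpowers (d * e)).map (MulAut.conj (g : G)).toMonoidHom from rfl,
        MonoidHom.map_zpowers]
      show Subgroup.zpowers ((g : G) * (d * e) * (g : G)⁻¹) = _
      rw [show (g : G) * (d * e) * (g : G)⁻¹ =
        ((g : G) * d * (g : G)⁻¹) * ((g : G) * e * (g : G)⁻¹) by group, hAε d hd, hBε e he,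
        ← hmul d e ((hG.trace_le h9 A.2).1 hd) ((hG.trace_le h9 B.2).1 he), hz]
    rcases hall A hA.1 hA.2 with h1 | h1 <;> rcases hall B hB.1 hB.2 with h2 | h2
    · exact (hboth id (fun d e _ _ => rfl) (fun d => rfl) h1 h2).elim
    · exact ⟨A, B, hAB, hA, hB, h1, h2⟩
    · exact ⟨B, A, hAB.symm, hB, hA, h2, h1⟩
    · refine (hboth (·⁻¹) (fun d e hd he => ?_) (fun d => Subgroup.zpowers_inv) h1 h2).elim
      rw [mul_inv_rev]
      exact (hG.commute_of_mem h9 (inv_mem he) (inv_mem hd)).eq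
  -- fixed points on a stable orbit
  have hgfix : (g : G) • P = P := hNfix g
  have hbase : ∀ Q : Sylow 3 G, Q ≠ P → (g : G) • Q ∈ MulAction.orbit (P : Subgroup G) Q →
      ∃ R ∈ MulAction.orbit (P : Subgroup G) Q, (g : G) • R = R := by
    intro Q hQ hmem
    set O := MulAction.orbit (P : Subgroup G) Q with hO
    have hstab : ∀ T ∈ O, (g : G) • T ∈ O := by
      rintro _ ⟨p, rfl⟩
      obtain ⟨p', hp'⟩ := hmem
      refine ⟨⟨(g : G) * p * (g : G)⁻¹, (Subgroup.mem_normalizer_iff.mp g.2 p).mp p.2⟩ * p', ?_⟩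
      show ((g : G) * p * (g : G)⁻¹ * p') • Q = (g : G) • ((p : G) • Q)
      rw [mul_smul, show (p' : G) • Q = (g : G) • Q from hp', ← mul_smul, inv_mul_cancel_right, mul_smul]
    let σ : Equiv.Perm O :=
      { toFun := fun T => ⟨(g : G) • T.1, hstab T.1 T.2⟩
        invFun := fun T => ⟨(g : G) • T.1, hstab T.1 T.2⟩
        left_inv := fun T => Subtype.ext (by simp only; rw [← mul_smul, hgg, one_smul])
        right_inv := fun T => Subtype.ext (by simp only; rw [← mul_smul, hgg, one_smul]) }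
    have hσ : σ ^ 2 ^ 1 = 1 := by
      rw [pow_one, pow_two]
      exact Equiv.ext fun T => Subtype.ext (by
        show (g : G) • ((g : G) • T.1) = T.1
        rw [← mul_smul, hgg, one_smul])
    have hodd : ¬ 2 ∣ Fintype.card O := by
      rw [← Set.toFinset_card, ← Set.ncard_eq_toFinset_card', hO]
      rcases hG.orbit_ncard hQ with h | h <;> rw [h] <;> norm_num
    obtain ⟨T, hT⟩ := Equiv.Perm.exists_fixed_point_of_prime (p := 2) (n := 1) hodd hσ
    exact ⟨T.1, T.2, congrArg Subtype.val hT⟩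
  have hmove : ∀ (R : Sylow 3 G), (g : G) • R = R → ∀ x ∈ X.1, ∀ y ∈ Y.1,
      ((g : G) • (x * y) • R = (x * y) • R ↔ y • R = R) := by
    intro R hR x hx y hy
    have he : (g : G) * (x * y) = x * y⁻¹ * g := by
      calc (g : G) * (x * y) = ((g : G) * x * (g : G)⁻¹) * ((g : G) * y * (g : G)⁻¹) * g := by group
        _ = x * y⁻¹ * g := by rw [hXc x hx, hYi y hy]
    rw [← mul_smul, he, mul_smul, hR, mul_smul, mul_smul, smul_left_cancel_iff, inv_smul_eq_iff]
    have hy3 : y ^ 3 = 1 := hG.pow_three h9 ((hG.trace_le h9 Y.2).1 hy)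
    constructor
    · intro h
      have h2 : y ^ 3 • R = y • R := by
        rw [pow_succ', pow_two, mul_smul, mul_smul, ← h]
      rw [hy3, one_smul] at h2
      exact h2.symm
    · intro h; rw [h, h]
  have hline : ∀ D : {D // D ∈ traces P}, D ≠ a → D ≠ b → ∃ Q, Nb P Q ∧
      (P : Subgroup G) ⊓ Q = D.1 ∧ (g : G) • Q = Q ∧
      ∀ T, Nb P T → (P : Subgroup G) ⊓ T = D.1 → T ∈ MulAction.orbit (P : Subgroup G) Q := by
    intro D h1 h2
    obtain ⟨Q, hQ, hQD⟩ := (hG.mem_traces h9).mp D.2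
    have horb : ∀ T, Nb P T → (P : Subgroup G) ⊓ T = D.1 → T ∈ MulAction.orbit (P : Subgroup G) Q := by
      intro T hT hTD
      have hsub : (MulAction.orbit (P : Subgroup G) Q).toFinset ⊆ (line D.1).erase P := by
        intro U hU
        rw [Set.mem_toFinset] at hU
        rw [Finset.mem_erase, mem_line, ← hQD, ← hG.inf_eq_of_mem_orbit hQ hU]
        exact ⟨hG.ne_of_mem_orbit hQ.1 hU, inf_le_right⟩
      have heq := Finset.eq_of_subset_of_card_le hsub (by
        rw [← hQD, Finset.card_erase_of_mem hG.self_mem_line.1, ← Set.ncard_eq_toFinset_card', hQ.2,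
          (hG.four_lines h9 P).1 _ (hG.mem_linesThrough.mpr ⟨Q, hQ, rfl⟩)])
      rw [← Set.mem_toFinset, heq, Finset.mem_erase, mem_line, ← hTD]
      exact ⟨hT.1, inf_le_right⟩
    have hgQ : Nb P ((g : G) • Q) ∧ (P : Subgroup G) ⊓ ((g : G) • Q : Sylow 3 G) = D.1 := by
      have hd : (P : Subgroup G) ⊓ ((g : G) • Q : Sylow 3 G) = D.1 := by
        have := hfixtr D h1 h2
        rw [← hQD, Subgroup.smul_inf, ← Sylow.coe_subgroup_smul, ← Sylow.coe_subgroup_smul, hgfix,
          hQD] at this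
        exact this
      refine ⟨hG.nb_of_card (fun h => hQ.1 (smul_left_cancel (g : G) (h.trans hgfix.symm))) ?_, hd⟩
      rw [hd, ← hQD]
      exact (hG.card_nb_eq hQ).le
    obtain ⟨R, hR, hgR⟩ := hbase Q hQ.1 (horb _ hgQ.1 hgQ.2)
    refine ⟨R, hG.nb_of_mem_orbit hQ hR, (hG.inf_eq_of_mem_orbit hQ hR).trans hQD, hgR, fun T hT hTD => ?_⟩
    rw [MulAction.orbit_eq_iff.mpr hR]
    exact horb T hT hTD
  obtain ⟨Q₁, hQ₁, hQ₁X, hgQ₁, hQ₁all⟩ := hline X hX.1 hX.2
  obtain ⟨Q₂, hQ₂, hQ₂Y, hgQ₂, hQ₂all⟩ := hline Y hY.1 hY.2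
  obtain ⟨Z₀, hZ₀, hZ₀n⟩ := hG.exists_far h9 P
  obtain ⟨Z, hZO, hgZ⟩ := hbase Z₀ hZ₀ (by
    obtain ⟨u, v⟩ := hG.smul_far h9 (g : G) hZ₀ hZ₀n
    rw [hgfix] at u v
    exact (hG.far_orbit h9 hZ₀ hZ₀n).2 _ u v)
  have hZ : Z ≠ P := hG.ne_of_mem_orbit hZ₀ hZO
  have hZn : ¬ Nb P Z := fun h => hZ₀n ⟨hZ₀, by rw [← MulAction.orbit_eq_iff.mpr hZO]; exact h.2⟩
  have hZstab : ∀ z ∈ (P : Subgroup G), z • Z = Z → z = 1 := by
    intro z hz h
    have h1 := hG.card_eq_orbit_mul P Z
    rw [(hG.far_orbit h9 hZ hZn).1, hP] at h1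
    have hb := Subgroup.eq_bot_of_card_eq ((P : Subgroup G) ⊓ Z) (by omega)
    exact Subgroup.mem_bot.mp (hb ▸ Subgroup.mem_inf.mpr ⟨hz, mem_of_isPGroup_smul_eq P.2 hz h⟩)
  -- the eight fixed points
  set O₂ := (MulAction.orbit (P : Subgroup G) Q₂).toFinset with hO₂
  haveI : Fintype X.1 := Fintype.ofFinite _
  set Z₃ : Finset (Sylow 3 G) := Finset.univ.image (fun x : X.1 => (x : G) • Z) with hZ₃
  have hfix : Finset.univ.filter (fun T : Sylow 3 G => (g : G) • T = T) = {P, Q₁} ∪ (O₂ ∪ Z₃) := by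
    ext T
    simp only [Finset.mem_filter, Finset.mem_univ, true_and, Finset.mem_union, Finset.mem_insert,
      Finset.mem_singleton, hO₂, Set.mem_toFinset, hZ₃, Finset.mem_image]
    constructor
    · intro hT
      by_cases hTP : T = P
      · exact Or.inl (Or.inl hTP)
      by_cases hTn : Nb P T
      · -- a fixed neighbour has a fixed trace
        set D : {D // D ∈ traces P} := ⟨_, (hG.mem_traces h9).mpr ⟨T, hTn, rfl⟩⟩ with hD
        have hDfix : ψ g D = D := by
          apply Subtype.ext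
          rw [hψ, hD, Subgroup.smul_inf, ← Sylow.coe_subgroup_smul, ← Sylow.coe_subgroup_smul,
            hgfix, hT]
        have hDab : D ≠ a ∧ D ≠ b := by
          rw [hψg] at hDfix
          constructor <;> intro h <;> rw [h] at hDfix <;> simp at hDfix <;>
            first | exact hab hDfix | exact hab hDfix.symm
        have hDmem : D = X ∨ D = Y := by
          by_contra hne
          push Not at hne
          have hc : ({a, b, X, Y, D} : Finset {D // D ∈ traces P}).card = 5 := by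
            rw [Finset.card_insert_of_notMem, Finset.card_insert_of_notMem,
              Finset.card_insert_of_notMem, Finset.card_insert_of_notMem, Finset.card_singleton] <;>
              simp [hab, hX.1.symm, hX.2.symm, hY.1.symm, hY.2.symm, hDab.1.symm, hDab.2.symm, hXY,
                hne.1.symm, hne.2.symm]
          have := Finset.card_le_univ ({a, b, X, Y, D} : Finset {D // D ∈ traces P})
          rw [hc, Fintype.card_coe, hG.card_traces h9] at this
          omega
        rcases hDmem with h | h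
        · obtain ⟨p, rfl⟩ := hQ₁all T hTn (congrArg Subtype.val h)
          obtain ⟨x, hx, y, hy, hxy⟩ := hprod X Y hXY p p.2
          change (g : G) • (p : G) • Q₁ = (p : G) • Q₁ at hT
          rw [hxy] at hT
          have hyQ := (hmove Q₁ hgQ₁ x hx y hy).mp hT
          refine Or.inl (Or.inr ?_)
          show (p : G) • Q₁ = Q₁
          rw [hxy, mul_smul, hyQ]
          refine hG.smul_self_of_mem ?_
          rw [← hQ₁X] at hx
          exact hx.2
        · exact Or.inr (Or.inl (hQ₂all T hTn (congrArg Subtype.val h)))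
      · obtain ⟨p, rfl⟩ := (hG.far_orbit h9 hZ hZn).2 T hTP hTn
        obtain ⟨x, hx, y, hy, hxy⟩ := hprod X Y hXY p p.2
        change (g : G) • (p : G) • Z = (p : G) • Z at hT
        rw [hxy] at hT
        have hyZ := hZstab y ((hG.trace_le h9 Y.2).1 hy) ((hmove Z hgZ x hx y hy).mp hT)
        refine Or.inr (Or.inr ⟨⟨x, hx⟩, ?_⟩)
        show x • Z = (p : G) • Z
        rw [hxy, hyZ, mul_one]
    · rintro ((rfl | rfl) | ⟨p, rfl⟩ | ⟨⟨x, hx⟩, rfl⟩)
      · exact hgfix
      · exact hgQ₁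
      · obtain ⟨x, hx, y, hy, hxy⟩ := hprod X Y hXY p p.2
        show (g : G) • (p : G) • Q₂ = (p : G) • Q₂
        rw [hxy]
        refine (hmove Q₂ hgQ₂ x hx y hy).mpr (hG.smul_self_of_mem ?_)
        rw [← hQ₂Y] at hy
        exact hy.2
      · show (g : G) • x • Z = x • Z
        have := (hmove Z hgZ x hx 1 Y.1.one_mem).mpr (one_smul _ _)
        rwa [mul_one] at this
  have hO₂card : O₂.card = 3 := by rw [hO₂, ← Set.ncard_eq_toFinset_card', hQ₂.2]
  have hZ₃card : Z₃.card = 3 := by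
    rw [hZ₃, Finset.card_image_of_injective, Finset.card_univ, ← Nat.card_eq_fintype_card,
      (hG.trace_le h9 X.2).2]
    intro u v h
    have := hZstab ((v : G)⁻¹ * u) ((hG.trace_le h9 X.2).1 (X.1.mul_mem (X.1.inv_mem v.2) u.2))
      (by rw [mul_smul, show (u : G) • Z = (v : G) • Z from h, inv_smul_smul])
    exact Subtype.ext (inv_mul_eq_one.mp this).symm
  have hQ₁₂ : (P : Subgroup G) ⊓ Q₁ ≠ (P : Subgroup G) ⊓ Q₂ := by
    rw [hQ₁X, hQ₂Y]; exact fun h => hXY (Subtype.ext h)
  have hfar3 : ∀ T ∈ Z₃, T ≠ P ∧ ¬ Nb P T := by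
    intro T hT
    obtain ⟨x, -, rfl⟩ := Finset.mem_image.mp hT
    have hm : (x : G) • Z ∈ MulAction.orbit (P : Subgroup G) Z :=
      ⟨⟨x, (hG.trace_le h9 X.2).1 x.2⟩, rfl⟩
    exact ⟨hG.ne_of_mem_orbit hZ hm, fun h => hZn ⟨hZ, by rw [← MulAction.orbit_eq_iff.mpr hm]; exact h.2⟩⟩
  have hnb2 : ∀ T ∈ O₂, Nb P T ∧ (P : Subgroup G) ⊓ T = (P : Subgroup G) ⊓ Q₂ := fun T hT => by
    rw [hO₂, Set.mem_toFinset] at hT
    exact ⟨hG.nb_of_mem_orbit hQ₂ hT, hG.inf_eq_of_mem_orbit hQ₂ hT⟩
  have hd1 : Disjoint O₂ Z₃ := Finset.disjoint_left.mpr fun T h2 h3 => (hfar3 T h3).2 (hnb2 T h2).1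
  have hd2 : Disjoint ({P, Q₁} : Finset (Sylow 3 G)) (O₂ ∪ Z₃) := by
    rw [Finset.disjoint_left]
    intro T hT hT'
    rw [Finset.mem_insert, Finset.mem_singleton] at hT
    rcases Finset.mem_union.mp hT' with h | h <;> rcases hT with rfl | rfl
    · exact (hnb2 _ h).1.1 rfl
    · exact hQ₁₂ (hnb2 _ h).2
    · exact (hfar3 _ h).1 rfl
    · exact (hfar3 _ h).2 hQ₁
  have hcard := congrArg Finset.card hfix
  rw [Finset.card_union_of_disjoint hd2, Finset.card_union_of_disjoint hd1, hO₂card, hZ₃card,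
    Finset.card_pair hQ₁.1.symm] at hcard
  have hmoved := hG.four_dvd_moved hgg hg1
  rw [Nat.card_eq_fintype_card, Fintype.card_subtype_compl, ← Nat.card_eq_fintype_card,
    hG.card_sylow, Fintype.card_subtype, hcard] at hmoved
  omega

end Config

end CfsgLib.SylowNumber.TwentyTwo
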