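import Mathlib
import Cfsg.Agent.S0989
import Cfsg.Agent.Lib.SmallOrder.Exclude
import Cfsg.Agent.Lib.SylowNumber.Coprime
import Cfsg.Agent.Lib.SylowNumber.TwentyTwo.NineFinal

/-!
Twenty-two Sylow `3`-subgroups: the case of Sylow subgroups of order 3, and the theorem.
-/

namespace CfsgLib.SylowNumber.TwentyTwo

open scoped Pointwise
open scoped Classical

set_option linter.style.haveILetI false
set_option linter.unusedSectionVars false

/-- A 2-part of order 16 in a subgroup of `S₇` gives a transposition. -/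
theorem exists_swap_mem {β : Type*} [Fintype β] (hβ : Fintype.card β = 7)
    (H : Subgroup (Equiv.Perm β)) (h16 : 16 ∣ Nat.card H) :
    ∃ a b, a ≠ b ∧ Equiv.swap a b ∈ H := by
  haveI : Fact (Nat.Prime 2) := ⟨Nat.prime_two⟩
  obtain ⟨K, hK⟩ := Sylow.exists_subgroup_card_pow_prime (G := H) 2 (n := 4) h16
  have hK' : Nat.card (K.map H.subtype : Subgroup (Equiv.Perm β)) = 2 ^ 4 := by
    rw [Subgroup.card_map_of_injective H.subtype_injective, hK]
  obtain ⟨R, hR⟩ := (IsPGroup.of_card hK').exists_le_sylow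
  have hperm : Nat.card (Equiv.Perm β) = 5040 := by
    rw [Nat.card_perm, Nat.card_eq_fintype_card, hβ]; rfl
  have hRcard : Nat.card (R : Subgroup (Equiv.Perm β)) = 16 := by
    rw [R.card_eq_multiplicity, hperm,
      show (5040 : ℕ).factorization 2 = 4 by
        rw [show (5040 : ℕ) = 2 ^ 4 * 315 by norm_num, Nat.factorization_mul (by norm_num) (by norm_num),
          Finsupp.add_apply, Nat.Prime.factorization_pow Nat.prime_two, Finsupp.single_eq_same,
          Nat.factorization_eq_zero_of_not_dvd (by norm_num : ¬ 2 ∣ 315)]]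
    rfl
  have heq := Subgroup.eq_of_le_of_card_ge hR (by rw [hRcard, hK']; norm_num)
  obtain ⟨a, b, hab⟩ := Fintype.exists_pair_of_one_lt_card (α := β) (by omega)
  obtain ⟨R₀, hR₀⟩ := (IsPGroup.of_card (p := 2) (n := 1)
    (by rw [Nat.card_zpowers, orderOf_eq_prime (p := 2) (by rw [pow_two, Equiv.swap_mul_self])
      (fun h => hab (Equiv.swap_eq_one_iff.mp h)), pow_one]) :
    IsPGroup 2 (Subgroup.zpowers (Equiv.swap a b))).exists_le_sylow
  obtain ⟨g, rfl⟩ := MulAction.exists_smul_eq (Equiv.Perm β) R₀ R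
  refine ⟨g a, g b, fun h => hab (g.injective h), ?_⟩
  have hmem : Equiv.swap (g a) (g b) ∈ ((g • R₀ : Sylow 2 (Equiv.Perm β)) : Subgroup (Equiv.Perm β)) := by
    rw [Sylow.coe_subgroup_smul, Equiv.swap_apply_apply]
    exact ⟨_, hR₀ (Subgroup.mem_zpowers _), rfl⟩
  rw [← heq] at hmem
  exact Subgroup.map_subtype_le K hmem

/-- A subgroup of `S₇` has no element of order 7 normalised by one of order 5. -/
theorem not_seven_five {β : Type*} [Fintype β] (hβ : Fintype.card β = 7)
    (H : Subgroup (Equiv.Perm β)) (h35 : Nat.card H = 35 ∨ Nat.card H = 280) : False := by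
  haveI : Fact (Nat.Prime 7) := ⟨by norm_num⟩
  obtain ⟨Q⟩ : Nonempty (Sylow 7 H) := inferInstance
  have hQ : Nat.card (Q : Subgroup H) = 7 := by
    have h7 : (Nat.card H).factorization 7 = 1 := by
      rcases h35 with h | h <;> rw [h]
      · rw [show (35 : ℕ) = 7 * 5 by norm_num, Nat.factorization_mul (by norm_num) (by norm_num),
          Finsupp.add_apply, (Fact.out : Nat.Prime 7).factorization_self,
          Nat.factorization_eq_zero_of_not_dvd (by norm_num : ¬ 7 ∣ 5)]
      · rw [show (280 : ℕ) = 7 * 40 by norm_num, Nat.factorization_mul (by norm_num) (by norm_num),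
          Finsupp.add_apply, (Fact.out : Nat.Prime 7).factorization_self,
          Nat.factorization_eq_zero_of_not_dvd (by norm_num : ¬ 7 ∣ 40)]
    rw [Q.card_eq_multiplicity, h7, pow_one]
  set M := Subgroup.normalizer ((Q : Subgroup H) : Set H) with hM
  have hidx : M.index ∣ Nat.card H / 7 ∧ M.index % 7 = 1 := by
    rw [hM, Q.coe_coe, ← Q.card_eq_index_normalizer]
    refine ⟨Q.card_dvd_index.trans (dvd_of_eq ?_), card_sylow_modEq_one 7 H⟩
    rw [← Subgroup.card_mul_index (Q : Subgroup H), hQ, Nat.mul_div_cancel_left _ (by norm_num)]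
  have h5 : 5 ∣ Nat.card M := by
    have hmul := Subgroup.card_mul_index M
    have h5H : 5 ∣ Nat.card M * M.index := by rw [hmul]; rcases h35 with h | h <;> rw [h] <;> norm_num
    refine ((Nat.Prime.dvd_mul (by norm_num)).mp h5H).resolve_right fun h => ?_
    have hd := hidx.1
    have hle : M.index ≤ Nat.card H / 7 := Nat.le_of_dvd (by rcases h35 with h | h <;> rw [h] <;> norm_num) hd
    have h2 := hidx.2
    rcases h35 with h' | h' <;> rw [h'] at hd hle <;> interval_cases M.index <;> omega
  have hQ' : Nat.card ((Q : Subgroup H).map H.subtype : Subgroup (Equiv.Perm β)) = 7 := by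
    rw [Subgroup.card_map_of_injective H.subtype_injective, hQ]
  obtain ⟨R, hR⟩ := (IsPGroup.of_card (p := 7) (n := 1) (by rw [hQ', pow_one]) :
    IsPGroup 7 ((Q : Subgroup H).map H.subtype : Subgroup (Equiv.Perm β))).exists_le_sylow
  have hRcard : Nat.card (R : Subgroup (Equiv.Perm β)) = 7 := by
    rw [R.card_eq_multiplicity, Nat.card_perm, Nat.card_eq_fintype_card, hβ,
      show (Nat.factorial 7).factorization 7 = 1 by
        rw [show Nat.factorial 7 = 7 * 720 by rfl, Nat.factorization_mul (by norm_num) (by norm_num),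
          Finsupp.add_apply, (Fact.out : Nat.Prime 7).factorization_self,
          Nat.factorization_eq_zero_of_not_dvd (by norm_num : ¬ 7 ∣ 720)], pow_one]
  have heq := Subgroup.eq_of_le_of_card_ge hR (by rw [hRcard, hQ'])
  have hle : M.map H.subtype ≤ Subgroup.normalizer ((R : Subgroup (Equiv.Perm β)) : Set (Equiv.Perm β)) := by
    rw [← heq]; exact Subgroup.le_normalizer_map H.subtype
  have hd := Subgroup.card_dvd_of_le hle
  rw [Subgroup.card_map_of_injective H.subtype_injective,
    Cfsg.Agent.S0989.result 7 (Or.inl hβ) R] at hd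
  have := h5.trans hd
  norm_num at this

variable {G : Type*} [Group G] [Finite G] [Fact (Nat.Prime 3)]

namespace Config

variable (hG : Config G)
include hG

set_option maxHeartbeats 1000000 in
theorem three_false {P : Sylow 3 G} (hP : Nat.card (P : Subgroup G) = 3) : False := by
  haveI : Fintype (Sylow 3 G) := Fintype.ofFinite _
  haveI := hG.simple
  haveI : IsCyclic (P : Subgroup G) := isCyclic_of_prime_card hP
  have horb : ∀ Q : Sylow 3 G, Q ≠ P → (MulAction.orbit (P : Subgroup G) Q).ncard = 3 := by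
    intro Q hQ
    refine (hG.orbit_ncard hQ).resolve_right fun h => ?_
    have := hG.card_eq_orbit_mul P Q
    rw [hP, h] at this
    omega
  set N := Subgroup.normalizer ((P : Subgroup G) : Set G) with hN
  set C := Subgroup.centralizer ((P : Subgroup G) : Set G) with hC
  have hPC : (P : Subgroup G) ≤ C := by
    intro a ha
    refine Subgroup.mem_centralizer_iff.mpr fun b hb => ?_
    exact congrArg Subtype.val
      (IsCyclic.commGroup.mul_comm (⟨b, hb⟩ : (P : Subgroup G)) ⟨a, ha⟩)
  have hCN : C ≤ N := Subgroup.centralizer_le_normalizer _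
  have hcomm : ∀ c ∈ C, ∀ y ∈ (P : Subgroup G), Commute c y := fun c hc y hy =>
    (Subgroup.mem_centralizer_iff.mp hc y hy).symm
  have hCP : ∀ c ∈ C, c • P = P := fun c hc => hG.smul_self_iff.mp (hCN hc)
  -- the seven orbits
  let O : Sylow 3 G → Finset (Sylow 3 G) := fun Q => (MulAction.orbit (P : Subgroup G) Q).toFinset
  set B : Finset (Finset (Sylow 3 G)) := (Finset.univ.erase P).image O with hB
  have hBmem : ∀ o, o ∈ B ↔ ∃ Q, Q ≠ P ∧ O Q = o := by intro o; simp [hB]
  have hOcard : ∀ Q, Q ≠ P → (O Q).card = 3 := fun Q hQ => by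
    simp only [O, ← Set.ncard_eq_toFinset_card']
    exact horb Q hQ
  have hself : ∀ Q, Q ∈ O Q := fun Q => by simp [O]
  have hOeq : ∀ Q R, R ∈ O Q → O R = O Q := fun Q R h => by
    simp only [O, Set.mem_toFinset] at h ⊢
    exact Set.toFinset_inj.mpr (MulAction.orbit_eq_iff.mpr h)
  have hOne : ∀ Q, Q ≠ P → ∀ R ∈ O Q, R ≠ P := fun Q hQ R hR =>
    hG.ne_of_mem_orbit hQ (by simpa [O] using hR)
  have hBcard : B.card = 7 := by
    have h := Finset.card_eq_sum_card_image O (Finset.univ.erase P)
    rw [← hB, Finset.card_erase_of_mem (Finset.mem_univ _), Finset.card_univ,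
      ← Nat.card_eq_fintype_card, hG.card_sylow] at h
    have h3 : ∀ o ∈ B, ((Finset.univ.erase P).filter (fun Q => O Q = o)).card = 3 := by
      intro o ho
      obtain ⟨Q, hQ, rfl⟩ := (hBmem o).mp ho
      refine Eq.trans ?_ (hOcard Q hQ)
      congr 1
      ext R
      rw [Finset.mem_filter, Finset.mem_erase]
      exact ⟨fun hR => hR.2 ▸ hself R, fun hR => ⟨⟨hOne Q hQ R hR, Finset.mem_univ _⟩, hOeq Q R hR⟩⟩
    rw [Finset.sum_congr rfl h3, Finset.sum_const, smul_eq_mul] at h
    omega
  have hsmulO : ∀ c ∈ C, ∀ Q : Sylow 3 G, (O Q).image (fun R => c • R) = O (c • Q) := by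
    intro c hc Q
    ext R
    simp only [O, Finset.mem_image, Set.mem_toFinset]
    constructor
    · rintro ⟨T, ⟨p, rfl⟩, rfl⟩
      refine ⟨p, ?_⟩
      show (p : G) • c • Q = c • (p : G) • Q
      rw [← mul_smul, ← mul_smul, (hcomm c hc p p.2).eq]
    · rintro ⟨p, rfl⟩
      refine ⟨(p : G) • Q, ⟨p, rfl⟩, ?_⟩
      show c • (p : G) • Q = (p : G) • c • Q
      rw [← mul_smul, ← mul_smul, (hcomm c hc p p.2).eq]
  have hsmulB : ∀ c ∈ C, ∀ o ∈ B, o.image (fun R => c • R) ∈ B := by
    intro c hc o ho
    obtain ⟨Q, hQ, rfl⟩ := (hBmem o).mp ho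
    exact (hBmem _).mpr ⟨c • Q, fun h => hQ (smul_left_cancel c (h.trans (hCP c hc).symm)),
      (hsmulO c hc Q).symm⟩
  let σ : C →* Equiv.Perm B :=
    { toFun := fun c =>
        { toFun := fun o => ⟨o.1.image (fun R => (c : G) • R), hsmulB c c.2 o.1 o.2⟩
          invFun := fun o => ⟨o.1.image (fun R => (c : G)⁻¹ • R), hsmulB _ (C.inv_mem c.2) o.1 o.2⟩
          left_inv := fun o => Subtype.ext (by simp [Finset.image_image, Function.comp_def])
          right_inv := fun o => Subtype.ext (by simp [Finset.image_image, Function.comp_def]) }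
      map_one' := Equiv.ext fun o => Subtype.ext (by simp)
      map_mul' := fun a b => Equiv.ext fun o => Subtype.ext (by
        simp [Finset.image_image, Function.comp_def, mul_smul]) }
  have hσ : ∀ (c : C) (Q : Sylow 3 G) (hQ : O Q ∈ B), ((σ c ⟨O Q, hQ⟩).1) = O ((c : G) • Q) :=
    fun c Q _ => hsmulO c c.2 Q
  -- the kernel is `P`
  set m := ((P : Subgroup G).subgroupOf C).index with hm
  have hCcard : Nat.card C = 3 * m := by
    rw [← Subgroup.card_mul_index ((P : Subgroup G).subgroupOf C), ← hm,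
      Nat.card_congr (Subgroup.subgroupOfEquivOfLe hPC).toEquiv, hP]
  have hm3 : ¬ 3 ∣ m := fun h => P.not_dvd_index (h.trans (Subgroup.relIndex_dvd_index_of_le hPC))
  have hfixorb : ∀ (c : C), σ c = 1 → ∀ Q : Sylow 3 G, Q ≠ P →
      (c : G) • Q ∈ MulAction.orbit (P : Subgroup G) Q := by
    intro c hc Q hQ
    have h := hσ c Q ((hBmem _).mpr ⟨Q, hQ, rfl⟩)
    rw [hc] at h
    have h' : (c : G) • Q ∈ O Q := by rw [show O Q = O ((c : G) • Q) from h]; exact hself _
    simpa [O] using h'
  have hker : ∀ c : C, σ c = 1 → (c : G) ∈ (P : Subgroup G) := by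
    intro c hc
    have h3 : (c : G) ^ 3 = 1 := by
      refine hG.fix_all hm3 ?_ (fun y hy => (hcomm c c.2 y hy).pow_left 3)
        (hCP _ (pow_mem c.2 3)) fun Q hQ => ?_
      · rw [← pow_mul, ← hCcard]
        exact congrArg Subtype.val (pow_card_eq_one' (x := c))
      · exact hfixorb (c ^ 3) (by rw [map_pow, hc, one_pow]) Q hQ
    exact mem_of_isPGroup_smul_eq (IsPGroup.of_card_dvd_pow (n := 1)
      (by rw [Nat.card_zpowers, pow_one]; exact orderOf_dvd_of_pow_eq_one h3))
      (Subgroup.mem_zpowers (c : G)) (hCP _ c.2)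
  have hkerP : σ.ker = (P : Subgroup G).subgroupOf C := by
    refine le_antisymm (fun c hc => Subgroup.mem_subgroupOf.mpr (hker c (MonoidHom.mem_ker.mp hc)))
      fun c hc => MonoidHom.mem_ker.mpr (Equiv.ext fun o => ?_)
    obtain ⟨o, ho⟩ := o
    obtain ⟨Q, hQ, rfl⟩ := (hBmem o).mp ho
    refine Subtype.ext ((hσ c Q ho).trans (hOeq Q _ ?_))
    simp only [O, Set.mem_toFinset]
    exact ⟨⟨c, Subgroup.mem_subgroupOf.mp hc⟩, rfl⟩
  set k := Nat.card σ.range with hk
  have hkm : k = m := by rw [hk, hm, ← hkerP, Subgroup.index_ker]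
  have hcentral : ∀ c : G, c ∈ C → c ^ m = 1 → c ∈ (P : Subgroup G) → c = 1 := by
    intro c _ hcm hcP
    refine orderOf_eq_one_iff.mp (Nat.eq_one_of_dvd_coprimes (Nat.prime_three.coprime_iff_not_dvd.mpr hm3)
      ((Subgroup.orderOf_dvd_natCard _ hcP).trans hP.dvd) (orderOf_dvd_of_pow_eq_one hcm))
  have hfixblock : ∀ c : C, (c : G) ^ 2 = 1 ∨ (c : G) ^ 5 = 1 → ∀ Q : Sylow 3 G, Q ≠ P →
      ∀ ho : O Q ∈ B, σ c ⟨O Q, ho⟩ = ⟨O Q, ho⟩ → (c : G) • Q = Q := by
    intro c hc Q hQ ho hfix
    have h := hσ c Q ho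
    rw [hfix] at h
    have h' : (c : G) • Q ∈ MulAction.orbit (P : Subgroup G) Q := by
      have h'' : (c : G) • Q ∈ O Q := by rw [show O Q = O ((c : G) • Q) from h]; exact hself _
      simpa [O] using h''
    obtain ⟨p, hp⟩ := h'
    have hp' : (p : G) • Q = (c : G) • Q := hp
    have hpow : ∀ j : ℕ, (c : G) ^ j • Q = (p : G) ^ j • Q := by
      intro j
      induction j with
      | zero => simp
      | succ j ih =>
        rw [pow_succ, mul_smul, ← hp', ← mul_smul, ((hcomm c c.2 p p.2).pow_left j).eq, mul_smul, ih,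
          ← mul_smul, ← pow_succ']
    have hp3 : (p : G) ^ 3 = 1 :=
      orderOf_dvd_iff_pow_eq_one.mp ((Subgroup.orderOf_dvd_natCard _ p.2).trans hP.dvd)
    rcases hc with hc | hc
    · have h2 := hpow 2
      rw [hc, one_smul] at h2
      have h3 : (p : G) • Q = (p : G) ^ 3 • Q := by rw [pow_succ', mul_smul, ← h2]
      rw [← hp', h3, hp3, one_smul]
    · have h2 := hpow 5
      rw [hc, one_smul, show (5 : ℕ) = 3 + 2 by norm_num, pow_add, hp3, one_mul] at h2
      have h3 : (p : G) • Q = (p : G) ^ 3 • Q := by rw [pow_succ', mul_smul, ← h2]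
      rw [← hp', h3, hp3, one_smul]
  have hperm : Nat.card (Equiv.Perm B) = 5040 := by
    rw [Nat.card_perm, Nat.card_eq_fintype_card, Fintype.card_coe, hBcard]; rfl
  have hk5040 : k ∣ 5040 := hperm ▸ Subgroup.card_subgroup_dvd_card _
  have hk0 : 0 < k := Nat.card_pos
  have hmemblock : ∀ (o : B) (Q : Sylow 3 G), Q ∈ o.1 → o.1 = O Q := by
    intro o Q hQ
    obtain ⟨R, hR, hRo⟩ := (hBmem _).mp o.2
    rw [← hRo, hOeq R Q (hRo ▸ hQ)]
  -- no transposition
  have hk16 : ¬ 16 ∣ k := by
    intro h16
    obtain ⟨a, b, hab, c₀, hc₀⟩ := exists_swap_mem (by rw [Fintype.card_coe, hBcard]) σ.range h16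
    set c := c₀ ^ 3 with hcdef
    have hσc : σ c = Equiv.swap a b := by
      rw [hcdef, map_pow, hc₀, _root_.pow_three]
      simp
      convert rfl
    have hcm : (c : G) ^ m = 1 := by
      rw [hcdef, Subgroup.coe_pow, ← pow_mul, ← hCcard]
      exact congrArg Subtype.val (pow_card_eq_one' (x := c₀))
    have hcc : (c : G) * c = 1 := by
      refine hcentral _ (C.mul_mem c.2 c.2) ?_ (hker (c * c) ?_)
      · rw [← pow_two, pow_right_comm, hcm, one_pow]
      · rw [map_mul, hσc, Equiv.swap_mul_self]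
    have hc1 : (c : G) ≠ 1 := by
      intro h
      rw [show c = 1 from Subtype.ext h, map_one] at hσc
      exact hab (Equiv.swap_eq_one_iff.mp hσc.symm)
    have hmoved : Finset.univ.filter (fun Q : Sylow 3 G => (c : G) • Q ≠ Q) = a.1 ∪ b.1 := by
      ext Q
      rw [Finset.mem_filter, Finset.mem_union]
      constructor
      · rintro ⟨-, hQ⟩
        have hQP : Q ≠ P := fun h => hQ (h ▸ hCP _ c.2)
        have ho : O Q ∈ B := (hBmem _).mpr ⟨Q, hQP, rfl⟩
        by_contra hne
        push Not at hne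
        refine hQ (hfixblock c (Or.inl (by rw [pow_two, hcc])) Q hQP ho ?_)
        rw [hσc, Equiv.swap_apply_of_ne_of_ne]
        · intro h; exact hne.1 (by rw [← h]; exact hself Q)
        · intro h; exact hne.2 (by rw [← h]; exact hself Q)
      · intro hQ
        refine ⟨Finset.mem_univ _, fun hfix => ?_⟩
        have key : ∀ o o' : B, Q ∈ o.1 → σ c o = o' → o = o' := by
          rintro o o' hQo ho'
          rw [← ho']
          have hblk := hmemblock o Q hQo
          apply Subtype.ext
          have e : (σ c ⟨O Q, hblk ▸ o.2⟩).1 = O ((c : G) • Q) := hσ c Q _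
          rw [hfix] at e
          have ho : o = ⟨O Q, hblk ▸ o.2⟩ := Subtype.ext hblk
          rw [ho]
          exact e.symm
        rcases hQ with hQ | hQ
        · exact hab (key a b hQ (by rw [hσc, Equiv.swap_apply_left]))
        · exact hab (key b a hQ (by rw [hσc, Equiv.swap_apply_right])).symm
    have hdisj : Disjoint a.1 b.1 := by
      rw [Finset.disjoint_left]
      intro Q hQa hQb
      obtain ⟨A, hA, hAa⟩ := (hBmem _).mp a.2
      obtain ⟨A', hA', hAb⟩ := (hBmem _).mp b.2
      refine hab (Subtype.ext ?_)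
      rw [← hAa, ← hAb, ← hOeq A Q (hAa ▸ hQa), hOeq A' Q (hAb ▸ hQb)]
    have hcard3 : ∀ o : B, o.1.card = 3 := fun o => by
      obtain ⟨A, hA, hAo⟩ := (hBmem _).mp o.2
      rw [← hAo, hOcard A hA]
    have h4 := hG.four_dvd_moved hcc hc1
    rw [Nat.card_eq_fintype_card, Fintype.card_subtype, hmoved, Finset.card_union_of_disjoint hdisj,
      hcard3, hcard3] at h4
    omega
  -- `N` induces the inversion on `P`
  set f := Subgroup.normalizerMonoidHom (P : Subgroup G) with hf
  have hfker : f.ker = C.subgroupOf N := Subgroup.normalizerMonoidHom_ker _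
  have hfr : Nat.card f.range = 2 := by
    have hd : Nat.card f.range ∣ 2 := by
      have h := Subgroup.card_subgroup_dvd_card f.range
      rwa [IsCyclic.card_mulAut, hP, Nat.totient_prime Nat.prime_three] at h
    refine ((Nat.dvd_prime Nat.prime_two).mp hd).resolve_left fun h1 => ?_
    have hle : N ≤ C := fun x hx => by
      have : (⟨x, hx⟩ : N) ∈ f.ker := by
        rw [MonoidHom.mem_ker]
        haveI := (Nat.card_eq_one_iff_unique.mp h1).1
        exact congrArg Subtype.val (Subsingleton.elim (⟨f ⟨x, hx⟩, _, rfl⟩ : f.range) 1)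
      rw [hfker] at this
      exact this
    set K := (MonoidHom.transferSylow P hle).ker
    have hKidx : K.index = 3 :=
      (MonoidHom.ker_transferSylow_isComplement' P hle).symm.index_eq_card.trans hP
    have hGc : Nat.card G = Nat.card N * 22 := by
      rw [← hG.normalizer_index P]; exact (Subgroup.card_mul_index N).symm
    rcases hG.eq_bot_or_top (M := K) inferInstance with hK | hK
    · rw [hK, Subgroup.index_bot] at hKidx
      have : 0 < Nat.card N := Nat.card_pos
      omega
    · rw [hK, Subgroup.index_top] at hKidx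
      omega
  have hNcard : Nat.card N = 6 * k := by
    rw [← Subgroup.card_mul_index f.ker, Subgroup.index_ker, hfr, hfker,
      Nat.card_congr (Subgroup.subgroupOfEquivOfLe hCN).toEquiv, hCcard, hkm]
    ring
  have hGcard : Nat.card G = 132 * k := by
    rw [← Subgroup.card_mul_index N, hG.normalizer_index P, hNcard]; ring
  -- the prime 11
  have hcases : k = 2 ∨ k = 5 ∨ k = 10 ∨ k = 35 ∨ k = 280 := by
    have h11 : ¬ 11 ∣ Nat.card N := by
      rw [hNcard]
      intro h
      have := h.trans (mul_dvd_mul_left 6 hk5040)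
      norm_num at this
    obtain ⟨e, n, he, hn, hGe, he2⟩ := hG.eleven P h11
    rw [← hN, hNcard] at he2
    rw [hGcard] at hGe
    have hk560 : k ∣ 560 := by
      have h1 : k ∣ 9 * 560 := hk5040
      refine (Nat.Coprime.dvd_mul_left ?_).mp h1
      rw [show (9 : ℕ) = 3 ^ 2 by norm_num]
      exact Nat.Coprime.pow_right 2 ((Nat.prime_three.coprime_iff_not_dvd.mpr (hkm ▸ hm3)).symm)
    have key : ∀ k ∈ Nat.divisors 560, ¬ 16 ∣ k → ∀ e ∈ [2, 5, 10], e ∣ 12 * k →
        (12 * k / e) % 11 = 1 → k = 2 ∨ k = 5 ∨ k = 10 ∨ k = 35 ∨ k = 280 := by decide +kernel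
    have he' : e ∈ [2, 5, 10] := by rcases he with rfl | rfl | rfl <;> simp
    have hdvd : e ∣ 12 * k := he2.trans (dvd_of_eq (by ring))
    refine key k (Nat.mem_divisors.mpr ⟨hk560, by norm_num⟩) hk16 e he' hdvd ?_
    have : 12 * k = e * n := by nlinarith
    rw [this, Nat.mul_div_cancel_left _ (by rcases he with rfl | rfl | rfl <;> norm_num)]
    exact hn
  have hna := hG.not_comm
  rcases hcases with h | h | h | h | h
  · exact CfsgLib.SmallOrder.false_of_excludedAt hna 11 11 1 24 (Or.inr (by norm_num)) (by norm_num)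
      (by norm_num) (by norm_num) (by rw [hGcard, h]; rfl) (by decide +kernel)
  · -- order 660
    haveI : Fact (Nat.Prime 5) := ⟨by norm_num⟩
    have hC15 : Nat.card C = 15 := by rw [hCcard, ← hkm, h]
    obtain ⟨y, hy⟩ := exists_prime_orderOf_dvd_card' (G := C) 5 (by rw [hC15]; norm_num)
    have hy5 : (y : G) ^ 5 = 1 := by rw [← Subgroup.coe_pow, ← hy, pow_orderOf_eq_one]; rfl
    have hy1 : σ y ≠ 1 := by
      intro h1
      have hd := (Subgroup.orderOf_dvd_natCard _ (hker y h1)).trans hP.dvd
      rw [Subgroup.orderOf_coe, hy] at hd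
      norm_num at hd
    have hoσ : orderOf (σ y) = 5 :=
      orderOf_eq_prime (by rw [← map_pow, ← hy, pow_orderOf_eq_one, map_one]) hy1
    obtain ⟨i, hi⟩ := Equiv.Perm.cycleType_prime_order (σ := σ y) (hoσ ▸ (Fact.out : Nat.Prime 5))
    rw [hoσ] at hi
    have hsupp : (σ y).support.card = 5 := by
      have h2 : (σ y).support.card = (i + 1) * 5 := by
        rw [← Equiv.Perm.sum_cycleType, hi, Multiset.sum_replicate, smul_eq_mul]
      have h3 := Finset.card_le_univ (σ y).support
      rw [Fintype.card_coe, hBcard] at h3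
      omega
    set S2 : Finset B := Finset.univ.filter (fun o => σ y o = o) with hS2
    have hS2card : S2.card = 2 := by
      have : S2 = (σ y).supportᶜ := by ext o; simp [hS2]
      rw [this, Finset.card_compl, hsupp, Fintype.card_coe, hBcard]
    have hfixset : Finset.univ.filter (fun Q : Sylow 3 G => (y : G) • Q = Q) =
        insert P (S2.biUnion Subtype.val) := by
      ext Q
      rw [Finset.mem_filter, Finset.mem_insert, Finset.mem_biUnion]
      constructor
      · rintro ⟨-, hQ⟩
        by_cases hQP : Q = P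
        · exact Or.inl hQP
        refine Or.inr ⟨⟨O Q, (hBmem _).mpr ⟨Q, hQP, rfl⟩⟩, ?_, hself Q⟩
        rw [hS2, Finset.mem_filter]
        refine ⟨Finset.mem_univ _, Subtype.ext ?_⟩
        rw [hσ, hQ]
      · rintro (rfl | ⟨⟨o, ho⟩, hoS, hQo⟩)
        · exact ⟨Finset.mem_univ _, hCP _ y.2⟩
        · obtain ⟨R, hR, rfl⟩ := (hBmem o).mp ho
          have hQR : O Q = O R := hOeq R Q hQo
          refine ⟨Finset.mem_univ _, hfixblock y (Or.inr hy5) Q (hOne R hR Q hQo)
            ((hBmem _).mpr ⟨Q, hOne R hR Q hQo, rfl⟩) ?_⟩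
          rw [hS2, Finset.mem_filter] at hoS
          simp only [hQR]
          exact hoS.2
    have hfix : Nat.card {Q : Sylow 3 G // (y : G) • Q = Q} = 7 := by
      rw [Nat.card_eq_fintype_card, Fintype.card_subtype, hfixset, Finset.card_insert_of_notMem,
        Finset.card_biUnion, Finset.sum_congr rfl (g := fun _ => 3), Finset.sum_const, hS2card]
      · rfl
      · intro o _
        obtain ⟨A, hA, hAo⟩ := (hBmem _).mp o.2
        rw [← hAo, hOcard A hA]
      · intro o _ o' _ hne
        rw [Function.onFun, Finset.disjoint_left]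
        intro Q hQo hQo'
        obtain ⟨A, hA, hAo⟩ := (hBmem _).mp o.2
        obtain ⟨A', hA', hAo'⟩ := (hBmem _).mp o'.2
        refine hne (Subtype.ext ?_)
        rw [← hAo, ← hAo', ← hOeq A Q (hAo ▸ hQo), hOeq A' Q (hAo' ▸ hQo')]
      · rw [Finset.mem_biUnion]
        rintro ⟨o, -, hPo⟩
        obtain ⟨A, hA, hAo⟩ := (hBmem _).mp o.2
        exact hOne A hA P (hAo ▸ hPo) rfl
    have hcount := hG.fix_mul_class (y : G) P
    rw [hfix] at hcount
    set j := Nat.card {g : G // IsConj (y : G) g ∧ g • P = P}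
    have hj0 : 0 < j := by
      haveI : Nonempty {g : G // IsConj (y : G) g ∧ g • P = P} := ⟨⟨y, IsConj.refl _, hCP _ y.2⟩⟩
      exact Nat.card_pos
    have hj5 : j ≤ 5 := by
      obtain ⟨F⟩ : Nonempty (Sylow 5 C) := inferInstance
      have hF : Nat.card (F : Subgroup C) = 5 := by
        rw [F.card_eq_multiplicity, hC15, show (15 : ℕ).factorization 5 = 1 by
          rw [show (15 : ℕ) = 5 * 3 by norm_num, Nat.factorization_mul (by norm_num) (by norm_num),
            Finsupp.add_apply, (Fact.out : Nat.Prime 5).factorization_self,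
            Nat.factorization_eq_zero_of_not_dvd (by norm_num : ¬ 5 ∣ 3)], pow_one]
      have hF1 : Nat.card (Sylow 5 C) = 1 := by
        have hd := F.card_dvd_index
        have e := Subgroup.card_mul_index (F : Subgroup C)
        rw [hF, hC15] at e
        rw [show (F : Subgroup C).index = 3 by omega] at hd
        have h1 : Nat.card (Sylow 5 C) % 5 = 1 := card_sylow_modEq_one 5 C
        rcases (Nat.dvd_prime Nat.prime_three).mp hd with h | h <;> omega
      have hmem : ∀ g : {g : G // IsConj (y : G) g ∧ g • P = P}, ∃ u : (F : Subgroup C), ((u : C) : G) = g := by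
        rintro ⟨g, hg, hgP⟩
        have hg5 : g ^ 5 = 1 := by
          obtain ⟨c, rfl⟩ := isConj_iff.mp hg
          rw [conj_pow, hy5, mul_one, mul_inv_cancel]
        have hgN : g ∈ N := hG.smul_self_iff.mpr hgP
        have hgC : g ∈ C := by
          haveI : f.ker.Normal := inferInstance
          have h2 : (⟨g, hgN⟩ : N) ^ f.ker.index ∈ f.ker := Subgroup.pow_index_mem _ _
          rw [Subgroup.index_ker, hfr, hfker, Subgroup.mem_subgroupOf, Subgroup.coe_pow] at h2
          have h3 : (g ^ 2) ^ 3 = g := by rw [← pow_mul, pow_succ, hg5, one_mul]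
          rw [← h3]
          exact pow_mem h2 3
        obtain ⟨R, hR⟩ := (IsPGroup.of_card_dvd_pow (p := 5) (n := 1) (by
          rw [Nat.card_zpowers, pow_one]
          exact orderOf_dvd_of_pow_eq_one (Subtype.ext hg5 : (⟨g, hgC⟩ : C) ^ 5 = 1)) :
          IsPGroup 5 (Subgroup.zpowers (⟨g, hgC⟩ : C))).exists_le_sylow
        haveI := (Nat.card_eq_one_iff_unique.mp hF1).1
        exact ⟨⟨⟨g, hgC⟩, Subsingleton.elim R F ▸ hR (Subgroup.mem_zpowers _)⟩, rfl⟩
      choose u hu using hmem
      rw [← hF]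
      refine Nat.card_le_card_of_injective u fun g g' hgg => Subtype.ext ?_
      rw [← hu g, ← hu g', hgg]
    have h7 : 7 ∣ 22 * j := ⟨_, hcount.symm⟩
    omega
  · exact CfsgLib.SmallOrder.false_of_excludedAt hna 11 11 1 120 (Or.inr (by norm_num)) (by norm_num)
      (by norm_num) (by norm_num) (by rw [hGcard, h]; rfl) (by decide +kernel)
  · exact not_seven_five (by rw [Fintype.card_coe, hBcard]) σ.range (Or.inl h)
  · exact not_seven_five (by rw [Fintype.card_coe, hBcard]) σ.range (Or.inr h)

theorem config_false : False := by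
  obtain ⟨P⟩ : Nonempty (Sylow 3 G) := inferInstance
  obtain ⟨n, hn⟩ := IsPGroup.iff_card.mp P.2
  match n with
  | 0 =>
    haveI := hG.nontrivial_sylow
    obtain ⟨Q, hQ⟩ := exists_ne P
    have h1 := hG.card_eq_orbit_mul P Q
    rw [hn] at h1
    rcases hG.orbit_ncard hQ with h | h <;> rw [h] at h1 <;> omega
  | 1 => exact hG.three_false (by rw [hn, pow_one])
  | n + 2 =>
    refine hG.nine_false fun R => ?_
    rw [← hG.card_sylow_eq P R, hn, show (9 : ℕ) = 3 ^ 2 by norm_num]
    exact Nat.pow_le_pow_right (by norm_num) (by omega)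

end Config

universe u

/-- No finite group has exactly twenty-two Sylow `3`-subgroups. -/
theorem card_sylow_three_ne_twentytwo (G : Type u) [Group G] [Finite G] :
    Nat.card (Sylow 3 G) ≠ 22 := by
  haveI : Fact (Nat.Prime 3) := ⟨Nat.prime_three⟩
  suffices ∀ (k : ℕ) (G : Type u) [Group G] [Finite G], Nat.card G = k →
      Nat.card (Sylow 3 G) ≠ 22 from this _ G rfl
  clear * -
  intro k
  induction k using Nat.strong_induction_on with
  | _ k ih =>
    intro G _ _ hk hn
    haveI : Nontrivial G := by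
      rcases subsingleton_or_nontrivial G with h | h
      · exfalso
        have h3 : IsPGroup 3 G := fun g => ⟨0, Subsingleton.elim _ _⟩
        have := card_sylow_eq_one_of_isPGroup h3
        omega
      · exact h
    have hval : ∀ d, d ∣ 22 → d % 3 = 1 → d = 1 ∨ d = 22 := by
      intro d hd h3
      have := Nat.le_of_dvd (by norm_num) hd
      interval_cases d <;> omega
    have hprop : ∀ H : Subgroup G, H ≠ ⊤ → Nat.card (Sylow 3 H) ≠ 22 := fun H hH =>
      ih _ (hk ▸ lt_of_le_of_ne (Subgroup.card_le_card_group H)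
        (fun e => hH ((Subgroup.card_eq_iff_eq_top H).mp e))) H rfl
    refine Config.config_false (G := G) ⟨⟨fun M hM => ?_⟩, hn⟩
    by_contra hcon
    push Not at hcon
    obtain ⟨hbot, htop⟩ := hcon
    haveI := hM
    have hquot : ∀ (L : Subgroup G) [L.Normal], L ≠ ⊥ → Nat.card (Sylow 3 (G ⧸ L)) ≠ 22 := by
      intro L _ hL
      refine ih _ ?_ (G ⧸ L) rfl
      have e := Subgroup.card_eq_card_quotient_mul_card_subgroup L
      have h1 : 1 < Nat.card L := (Subgroup.one_lt_card_iff_ne_bot L).mpr hL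
      have h2 : 0 < Nat.card (G ⧸ L) := Nat.card_pos
      nlinarith
    obtain ⟨P⟩ : Nonempty (Sylow 3 G) := inferInstance
    have h1 : Nat.card (Sylow 3 M) = 1 := by
      refine (hval _ (hn ▸ Dvd.intro _ (card_sylow_eq_normal_mul M P).symm)
        (card_sylow_modEq_one 3 M)).resolve_right (hprop M htop)
    set T : Subgroup G := (P : Subgroup G) ⊓ M with hT
    have hNT : Subgroup.normalizer (T : Set G) = ⊤ := by
      by_contra h
      have := card_sylow_eq_normal_mul M P
      rw [h1, one_mul, hn, ← hT] at this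
      exact hprop _ h this.symm
    haveI hTn : T.Normal := Subgroup.normalizer_eq_top_iff.mp hNT
    have hTbot : T = ⊥ := by
      by_contra h
      exact hquot T h ((card_sylow_quotient_of_isPGroup T (P.2.to_le inf_le_left)).trans hn)
    have hM3 : ¬ 3 ∣ Nat.card M := by
      intro h
      have hne := (infSylow M P).ne_bot_of_dvd_card h
      apply hne
      rw [coe_infSylow, Subgroup.subgroupOf_eq_bot, disjoint_iff]
      rw [eq_bot_iff]
      intro x hx
      have : x ∈ T := by
        rw [hT, Subgroup.mem_inf]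
        simp only [Subgroup.mem_inf] at hx
        tauto
      rwa [hTbot] at this
    have hquot1 : Nat.card (Sylow 3 (G ⧸ M)) = 1 :=
      (hval _ (hn ▸ card_sylow_quotient_dvd M) (card_sylow_modEq_one 3 _)).resolve_right (hquot M hbot)
    have hsup : (P : Subgroup G) ⊔ M = ⊤ := by
      by_contra h
      have := card_sylow_eq_quotient_mul M P
      rw [hquot1, one_mul, hn] at this
      exact hprop _ h this.symm
    haveI : Fact (Nat.Prime 2) := ⟨Nat.prime_two⟩
    have hmod := rpart_card_sylow_mod (r := 2) P M hM3 hsup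
    rw [hn, show (22 : ℕ).factorization 2 = 1 by
      rw [show (22 : ℕ) = 2 * 11 by norm_num, Nat.factorization_mul (by norm_num) (by norm_num),
        Finsupp.add_apply, Nat.prime_two.factorization_self,
        Nat.factorization_eq_zero_of_not_dvd (by norm_num : ¬ 2 ∣ 11)]] at hmod
    norm_num at hmod

end CfsgLib.SylowNumber.TwentyTwo
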